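import Cfsg.Agent.Signalizer.AltFiveRadical.Bridge
import Cfsg.Agent.PGroups.Basic
import Cfsg.Agent.Coprime.Centralize

/-!
The Frattini subgroup of the 2-radical has order at most two.
-/

set_option autoImplicit false

namespace Cfsg.Agent.Signalizer.AltFive

open Subgroup
open scoped commutatorElement

variable {Y : Type*} [Group Y] [Finite Y]

omit [Finite Y] in
/-- Elementary abelian groups onto which a subgroup maps have order at most 16. -/
theorem elem_le_16 (hr : Cfsg.SectionalPRankLE 2 4 Y) (K : Subgroup Y) {Q : Type*} [Group Q]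
    (g : K →* Q) (hg : Function.Surjective g) (hab : ∀ a b : Q, a * b = b * a)
    (he : ∀ a : Q, a * a = 1) : Nat.card Q ≤ 16 := by
  let e := QuotientGroup.quotientKerEquivOfSurjective g hg
  have h := hr K g.ker ⊤ ⟨⟨fun x y => Subtype.ext (e.injective ?_)⟩⟩ (fun x _ => e.injective ?_)
  · rwa [card_top, Nat.card_congr e.toEquiv] at h
  · show e ((x : _) * (y : _)) = e ((y : _) * (x : _))
    rw [map_mul, map_mul, hab]
  · rw [map_pow, map_one, pow_two, he]

omit [Finite Y] in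
/-- Sectional rank passes to images. -/
theorem rank_map (hr : Cfsg.SectionalPRankLE 2 4 Y) {Z : Type*} [Group Z] (f : Y →* Z)
    (hf : Function.Surjective f) : Cfsg.SectionalPRankLE 2 4 Z := by
  intro H N _ A hA hA2
  let h : ↥(H.comap f) →* H ⧸ N :=
    (QuotientGroup.mk' N).comp ((f.comp (H.comap f).subtype).codRestrict H fun x => x.2)
  have hh : Function.Surjective h := by
    intro q
    obtain ⟨⟨z, hz⟩, rfl⟩ := QuotientGroup.mk'_surjective N q
    obtain ⟨y, rfl⟩ := hf z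
    exact ⟨⟨y, hz⟩, rfl⟩
  let K := (A.comap h).map (H.comap f).subtype
  let i := (Subgroup.equivMapOfInjective (A.comap h) _ (H.comap f).subtype_injective).symm
  let g : K →* A := ((h.comp (A.comap h).subtype).codRestrict A fun x => x.2).comp i.toMonoidHom
  refine elem_le_16 hr K g ?_ (fun a b => hA.is_comm.comm a b)
    (fun a => Subtype.ext (by show (a : H ⧸ N) * a = 1; rw [← pow_two]; exact hA2 a a.2))
  intro a
  obtain ⟨x, hx⟩ := hh a
  obtain ⟨k, hk⟩ := i.surjective ⟨x, show h x ∈ A from hx ▸ a.2⟩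
  exact ⟨k, Subtype.ext (by show h (i k).1 = a; rw [hk]; exact hx)⟩

/-- The ambient data. -/
structure Good (N F : Subgroup Y) (c s d : Y) : Prop where
  rank : Cfsg.SectionalPRankLE 2 4 Y
  normN : N.Normal
  normF : F.Normal
  le : F ≤ N
  sq : ∀ n ∈ N, n * n ∈ F
  gen : closure {f | ∃ n ∈ N, n * n = f} = F
  card : Nat.card N = 16 * Nat.card F
  five : c ^ 5 ∈ N
  three : d ^ 3 ∈ N
  notMem : s ∉ N
  two : s * s ∈ N
  inv : s * c * s⁻¹ * c ∈ N
  simp : ∀ K : Subgroup Y, K.Normal → N ≤ K → c ∈ K → d ∈ K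
  fixV : ∀ n ∈ N, c * n * c⁻¹ * n⁻¹ ∈ F → n ∈ F
  moveV : ∃ n ∈ N, d * n * d⁻¹ * n⁻¹ ∉ F

theorem Good.quot {N F M : Subgroup Y} [hMn : M.Normal] {c s d : Y} (G : Good N F c s d) (hM : M ≤ F) :
    Good (N.map (QuotientGroup.mk' M)) (F.map (QuotientGroup.mk' M))
      (c : Y ⧸ M) (s : Y ⧸ M) (d : Y ⧸ M) := by
  set π := QuotientGroup.mk' M
  have hk : π.ker = M := QuotientGroup.ker_mk' M
  have hcm : ∀ {U : Subgroup Y}, M ≤ U → (U.map π).comap π = U := fun {U} hU =>
    comap_map_eq_self (hk.le.trans hU)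
  have mem : ∀ {U : Subgroup Y}, M ≤ U → ∀ {y : Y}, π y ∈ U.map π ↔ y ∈ U := fun {U} hU y => by
    rw [← mem_comap, hcm hU]
  have hMN := hM.trans G.le
  refine ⟨rank_map G.rank π (QuotientGroup.mk'_surjective M), G.normN.map π (QuotientGroup.mk'_surjective M),
    G.normF.map π (QuotientGroup.mk'_surjective M), map_mono G.le, ?_, ?_, ?_, ?_, ?_, ?_, ?_, ?_, ?_, ?_, ?_⟩
  · rintro _ ⟨n, hn, rfl⟩
    rw [← map_mul]; exact mem_map_of_mem π (G.sq n hn)
  · conv_rhs => rw [← G.gen, MonoidHom.map_closure]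
    congr 1
    ext f
    constructor
    · rintro ⟨_, ⟨n, hn, rfl⟩, rfl⟩; exact ⟨n * n, ⟨n, hn, rfl⟩, map_mul π n n⟩
    · rintro ⟨_, ⟨n, hn, rfl⟩, rfl⟩; exact ⟨π n, mem_map_of_mem π hn, (map_mul π n n).symm⟩
  · have h := G.card
    rw [card_eq_map_mul π N (hk.le.trans hMN), card_eq_map_mul π F (hk.le.trans hM)] at h
    exact Nat.eq_of_mul_eq_mul_right Nat.card_pos (h.trans (mul_assoc _ _ _).symm)
  · show (π c) ^ 5 ∈ _
    rw [← map_pow]; exact mem_map_of_mem π G.five
  · show (π d) ^ 3 ∈ _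
    rw [← map_pow]; exact mem_map_of_mem π G.three
  · exact fun h => G.notMem ((mem hMN).mp h)
  · show π s * π s ∈ _
    rw [← map_mul]; exact mem_map_of_mem π G.two
  · show π s * π c * (π s)⁻¹ * π c ∈ _
    simp only [← map_mul, ← map_inv]; exact mem_map_of_mem π G.inv
  · intro K hK hNK hcK
    exact G.simp (K.comap π) (hK.comap π) (map_le_iff_le_comap.mp hNK) hcK
  · rintro _ ⟨n, hn, rfl⟩ h
    refine mem_map_of_mem π (G.fixV n hn ((mem hM).mp ?_))
    simp only [map_mul, map_inv]; exact h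
  · obtain ⟨n, hn, h⟩ := G.moveV
    refine ⟨π n, mem_map_of_mem π hn, fun h' => h ((mem hM).mp ?_)⟩
    simp only [map_mul, map_inv]; exact h'

theorem card_map_mk {N F : Subgroup Y} [F.Normal] {k : ℕ} (hle : F ≤ N) (h : Nat.card N = k * Nat.card F) :
    Nat.card (N.map (QuotientGroup.mk' F)) = k := by
  rw [card_eq_map_mul (QuotientGroup.mk' F) N (by rw [QuotientGroup.ker_mk']; exact hle),
    QuotientGroup.ker_mk'] at h
  exact Nat.eq_of_mul_eq_mul_right Nat.card_pos h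

/-- When `F` is central elementary and nontrivial, it has order two. -/
theorem Good.layer {N F : Subgroup Y} {c s d : Y} (G : Good N F c s d)
    (hcen : ∀ f ∈ F, ∀ n ∈ N, f * n = n * f) (he : ∀ f ∈ F, f * f = 1) (hne : F ≠ ⊥) :
    Layer N F c ∧ Nat.card F = 2 := by
  have := G.normN
  have := G.normF
  have hle : Nat.card F ≤ 16 := elem_le_16 G.rank F (MonoidHom.id F) Function.surjective_id
    (fun a b => Subtype.ext (hcen a a.2 b (G.le b.2))) (fun a => Subtype.ext (he a a.2))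
  have hcard := card_map_mk G.le G.card
  have hc : ∀ f ∈ F, c * f = f * c := by
    by_contra hnt
    simp only [not_forall] at hnt
    obtain ⟨f, hf, hcf⟩ := hnt
    obtain ⟨h16, hfix⟩ := layer16 F he c (fun f hf => (hcen f hf _ G.five).symm) hle ⟨f, hf, hcf⟩
    exact not_rank_four N F G.le hcen he G.sq h16 hcard c s G.five G.notMem G.two G.inv hfix G.fixV G.rank
  have L : Layer N F c := ⟨G.normN, G.normF, G.le, hcen, he, G.sq, G.gen, hcard, G.five, hc, G.fixV⟩
  have hd : ∀ f ∈ F, d * f = f * d := by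
    have h := G.simp (centralizer (F : Set Y)) inferInstance
      (fun n hn => mem_centralizer_iff.mpr fun f hf => hcen f hf n hn)
      (mem_centralizer_iff.mpr fun f hf => (hc f hf).symm)
    exact fun f hf => (mem_centralizer_iff.mp h f hf).symm
  have h2 := L.facts.1 d G.three hd G.moveV
  have h1 := (Subgroup.one_lt_card_iff_ne_bot F).mpr hne
  exact ⟨L, by omega⟩

/-- `⁅F, N⁆F²`. -/
def lower (N F : Subgroup Y) : Subgroup Y := ⁅F, N⁆ ⊔ closure {g | ∃ f ∈ F, f * f = g}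

omit [Finite Y] in
theorem lower_normal (N F : Subgroup Y) [hN : N.Normal] [hF : F.Normal] : (lower N F).Normal := by
  have : (closure {g | ∃ f ∈ F, f * f = g}).Normal := by
    refine ⟨fun k hk y => ?_⟩
    induction hk using closure_induction with
    | mem k hk =>
      obtain ⟨f, hf, rfl⟩ := hk
      exact subset_closure ⟨y * f * y⁻¹, hF.conj_mem f hf y, by group⟩
    | one => simp
    | mul a b _ _ ha hb => rw [show y * (a * b) * y⁻¹ = (y * a * y⁻¹) * (y * b * y⁻¹) by group]; exact mul_mem ha hb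
    | inv a _ ha => rw [show y * a⁻¹ * y⁻¹ = (y * a * y⁻¹)⁻¹ by group]; exact inv_mem ha
  unfold lower
  infer_instance

theorem lower_lt (N F : Subgroup Y) [N.Normal] [hF : F.Normal] (hN : IsPGroup 2 N) (hle : F ≤ N)
    (hne : F ≠ ⊥) : lower N F < F := by
  have : Fact (Nat.Prime 2) := ⟨Nat.prime_two⟩
  have hFp : IsPGroup 2 F := hN.to_le hle
  have hlt : ⁅F, N⁆ < F := Coprime.commutator_lt_of_isPGroup hFp hN (normalizer_eq_top (H := F) ▸ le_top) hne
  refine lt_of_le_of_ne (sup_le hlt.le ((closure_le _).mpr ?_)) fun e => ?_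
  · rintro _ ⟨f, hf, rfl⟩; exact mul_mem hf hf
  have hsup : (⁅F, N⁆).subgroupOf F ⊔ frattini F = ⊤ := by
    refine map_injective F.subtype_injective ?_
    rw [Subgroup.map_sup, ← MonoidHom.range_eq_map, F.range_subtype, map_subgroupOf_eq_of_le hlt.le]
    refine le_antisymm (sup_le hlt.le (map_subtype_le _)) ?_
    conv_lhs => rw [← e]
    refine sup_le le_sup_left ((closure_le _).mpr ?_)
    rintro _ ⟨f, hf, rfl⟩
    refine mem_sup_right ⟨⟨f, hf⟩ ^ 2, PGroups.pow_mem_frattini hFp _, ?_⟩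
    simp [pow_two]
  exact hlt.not_ge (subgroupOf_eq_top.mp (frattini_nongenerating hsup))

omit [Finite Y] in
theorem lower_image (N F : Subgroup Y) [(lower N F).Normal] :
    (∀ f ∈ F, ∀ n ∈ N, (f : Y ⧸ lower N F) * n = n * f) ∧
      (∀ f ∈ F, (f : Y ⧸ lower N F) * f = 1) := by
  refine ⟨fun f hf n hn => ?_, fun f hf => ?_⟩
  · have h : (⁅f, n⁆ : Y) ∈ lower N F := mem_sup_left (commutator_mem_commutator hf hn)
    have h1 : ((⁅f, n⁆ : Y) : Y ⧸ lower N F) = 1 := (QuotientGroup.eq_one_iff _).mpr h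
    rw [commutatorElement_def] at h1
    simp only [QuotientGroup.mk_mul, QuotientGroup.mk_inv] at h1
    calc (f : Y ⧸ lower N F) * n = (f * n * (f : Y ⧸ lower N F)⁻¹ * (n : Y ⧸ lower N F)⁻¹) * (n * f) := by group
      _ = n * f := by rw [h1, one_mul]
  · rw [← QuotientGroup.mk_mul]
    exact (QuotientGroup.eq_one_iff _).mpr (mem_sup_right (subset_closure ⟨f, hf, rfl⟩))

/-- The Frattini subgroup `F` is central of order two. -/
theorem Good.main {N F : Subgroup Y} {c s d : Y} (G : Good N F c s d) (hN : IsPGroup 2 N) (hne : F ≠ ⊥) :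
    Layer N F c ∧ Nat.card F = 2 := by
  have := G.normN
  have := G.normF
  set M := lower N F with hMdef
  have hMn : M.Normal := lower_normal N F
  have hMlt : M < F := lower_lt N F hN G.le hne
  suffices hM : M = ⊥ by
    refine G.layer (fun f hf n hn => ?_) (fun f hf => ?_) hne
    · have h : ⁅f, n⁆ ∈ M := mem_sup_left (commutator_mem_commutator hf hn)
      rw [hM, mem_bot, commutatorElement_eq_one_iff_mul_comm] at h
      exact h
    · have h : f * f ∈ M := mem_sup_right (subset_closure ⟨f, hf, rfl⟩)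
      rwa [hM, mem_bot] at h
  by_contra hM
  set π := QuotientGroup.mk' M with hπ
  have hk : π.ker = M := QuotientGroup.ker_mk' M
  have hFne : F.map π ≠ ⊥ := fun h => hMlt.not_ge (by
    have := (Subgroup.map_eq_bot_iff F).mp h
    rwa [hk] at this)
  obtain ⟨hic, hie⟩ := lower_image N F
  obtain ⟨L, hF2⟩ := (G.quot hMlt.le).layer (fun f hf n hn => by
      obtain ⟨f, hf', rfl⟩ := hf
      obtain ⟨n, hn', rfl⟩ := hn
      exact hic f hf' n hn')
    (fun f hf => by obtain ⟨f, hf', rfl⟩ := hf; exact hie f hf') hFne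
  have hpair := (L.facts.2 hF2).2.1
  -- one step further down
  set M₁ := lower N M with hM₁def
  have hM₁n : M₁.Normal := lower_normal N M
  have hM₁lt : M₁ < M := lower_lt N M hN (hMlt.le.trans G.le) hM
  obtain ⟨hmc, hme⟩ := lower_image N M
  set ρ := QuotientGroup.mk' M₁
  have hmem : ∀ {y}, π y = 1 ↔ y ∈ M := fun {y} => QuotientGroup.eq_one_iff y
  have key : ∀ x ∈ N, (∀ f ∈ F, ρ f * ρ x = ρ x * ρ f) ∧ ∃ a ∈ N, ∃ b ∈ N,
      (b * a)⁻¹ * (a * b) ∈ F ∧ ∀ f ∈ F, f ∈ M ∨ ((b * a)⁻¹ * (a * b))⁻¹ * f ∈ M := by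
    intro x hx
    obtain ⟨_, ⟨a, ha, rfl⟩, _, ⟨b, hb, rfl⟩, hxa, hxb, hab⟩ := hpair (π x) (mem_map_of_mem π hx)
    set γ := (b * a)⁻¹ * (a * b) with hγ
    have hγF : γ ∈ F := by
      have e : γ = ((b * a)⁻¹ * (b * a)⁻¹) * ((b * a * b⁻¹) * (b * a * b⁻¹)) * (b * b) := by
        rw [hγ]; group
      rw [e]
      exact mul_mem (mul_mem (G.sq _ (inv_mem (mul_mem hb ha)))
        (G.sq _ (mul_mem (mul_mem hb ha) (inv_mem hb)))) (G.sq b hb)
    have hγM : γ ∉ M := fun h => hab (by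
      have h1 := hmem.mpr h
      rw [hγ, map_mul, map_inv, inv_mul_eq_one, map_mul, map_mul] at h1
      exact h1.symm)
    -- the conjugates of `a` and `b` under `x`
    have hconj : ∀ u ∈ N, π x * π u = π u * π x →
        ∃ m, (∀ w ∈ N, ρ m * ρ w = ρ w * ρ m) ∧ ρ x * ρ u * (ρ x)⁻¹ = ρ m * ρ u := by
      intro u hu h
      have hmM : x * u * x⁻¹ * u⁻¹ ∈ M := hmem.mp (by
        simp only [map_mul, map_inv, h]; group)
      refine ⟨_, fun w hw => hmc _ hmM w hw, ?_⟩
      simp only [← map_mul, ← map_inv]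
      congr 1; group
    obtain ⟨m, hm, hma⟩ := hconj a ha hxa
    obtain ⟨m', hm', hmb⟩ := hconj b hb hxb
    have hfixγ : ρ x * ρ γ * (ρ x)⁻¹ = ρ γ := by
      calc ρ x * ρ γ * (ρ x)⁻¹
          = ((ρ x * ρ b * (ρ x)⁻¹) * (ρ x * ρ a * (ρ x)⁻¹))⁻¹ *
              ((ρ x * ρ a * (ρ x)⁻¹) * (ρ x * ρ b * (ρ x)⁻¹)) := by
            rw [hγ]; simp only [map_mul, map_inv]; group
        _ = ((ρ m' * ρ b) * (ρ m * ρ a))⁻¹ * ((ρ m * ρ a) * (ρ m' * ρ b)) := by rw [hma, hmb]
        _ = ρ γ := by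
          have e1 : (ρ m' * ρ b) * (ρ m * ρ a) = (ρ m' * ρ m) * (ρ b * ρ a) := by
            calc _ = ρ m' * (ρ b * ρ m) * ρ a := by group
              _ = ρ m' * (ρ m * ρ b) * ρ a := by rw [hm b hb]
              _ = _ := by group
          have e2 : (ρ m * ρ a) * (ρ m' * ρ b) = (ρ m * ρ m') * (ρ a * ρ b) := by
            calc _ = ρ m * (ρ a * ρ m') * ρ b := by group
              _ = ρ m * (ρ m' * ρ a) * ρ b := by rw [hm' a ha]
              _ = _ := by group
          have e3 : ρ m * ρ m' = ρ m' * ρ m := by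
            have hmN : x * a * x⁻¹ * a⁻¹ ∈ N := by
              exact mul_mem (mul_mem (mul_mem hx ha) (inv_mem hx)) (inv_mem ha)
            have e : ρ m = ρ (x * a * x⁻¹ * a⁻¹) := by
              simp only [map_mul, map_inv, hma]; group
            rw [e]; exact (hm' _ hmN).symm
          rw [e1, e2, e3, hγ]
          simp only [map_mul, map_inv]
          group
    have hdec : ∀ f ∈ F, f ∈ M ∨ γ⁻¹ * f ∈ M := by
      intro f hf
      by_cases hfM : f ∈ M
      · exact Or.inl hfM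
      · refine Or.inr (hmem.mp ?_)
        obtain ⟨u, -, huu⟩ := (Nat.card_eq_two_iff' (1 : F.map π)).mp hF2
        have e1 := huu ⟨π f, mem_map_of_mem π hf⟩ fun h => hfM (hmem.mp (congrArg Subtype.val h))
        have e2 := huu ⟨π γ, mem_map_of_mem π hγF⟩ fun h => hγM (hmem.mp (congrArg Subtype.val h))
        have : π f = π γ := congrArg Subtype.val (e1.trans e2.symm)
        rw [map_mul, map_inv, this, inv_mul_cancel]
    have hcx : ∀ f ∈ F, ρ f * ρ x = ρ x * ρ f := by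
      intro f hf
      rcases hdec f hf with h | h
      · exact hmc f h x hx
      · have h1 : Commute (ρ (γ⁻¹ * f)) (ρ x) := hmc _ h x hx
        have h2 : Commute (ρ γ) (ρ x) := ((mul_inv_eq_iff_eq_mul).mp hfixγ).symm
        have := h2.mul_left h1
        rwa [← map_mul, mul_inv_cancel_left] at this
    exact ⟨hcx, a, ha, b, hb, hγF, hdec⟩
  have hcen : ∀ f ∈ F, ∀ w ∈ N, ρ f * ρ w = ρ w * ρ f := fun f hf w hw => (key w hw).1 f hf
  obtain ⟨-, a, ha, b, hb, hγF, hdec⟩ := key 1 (one_mem _)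
  set γ := (b * a)⁻¹ * (a * b) with hγ
  have hγ2 : ρ γ * ρ γ = 1 := by
    have hba : (ρ b)⁻¹ * ρ a * ρ b = ρ a * ρ γ := by
      rw [hγ]; simp only [map_mul, map_inv]; group
    have h1 : (ρ b)⁻¹ * (ρ a * ρ a) * ρ b = (ρ a * ρ a) * (ρ γ * ρ γ) := by
      calc _ = ((ρ b)⁻¹ * ρ a * ρ b) * ((ρ b)⁻¹ * ρ a * ρ b) := by group
        _ = (ρ a * ρ γ) * (ρ a * ρ γ) := by rw [hba]
        _ = ρ a * (ρ γ * ρ a) * ρ γ := by group
        _ = _ := by rw [hcen γ hγF a ha]; group
    have hsa := hcen _ (G.sq a ha) b hb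
    rw [map_mul] at hsa
    rw [mul_assoc (ρ b)⁻¹, hsa, inv_mul_cancel_left, left_eq_mul] at h1
    exact h1
  have helem : ∀ f ∈ F, ρ f * ρ f = 1 := by
    intro f hf
    rcases hdec f hf with h | h
    · exact hme f h
    · have h2 : ρ (γ⁻¹ * f) * ρ (γ⁻¹ * f) = 1 := hme _ h
      have h1 : ρ (γ⁻¹ * f) * ρ γ = ρ γ * ρ (γ⁻¹ * f) := hmc _ h γ (G.le hγF)
      set μ := ρ (γ⁻¹ * f) with hμ
      have hf' : ρ f = ρ γ * μ := by rw [hμ, ← map_mul, mul_inv_cancel_left]
      rw [hf', show ρ γ * μ * (ρ γ * μ) = ρ γ * (μ * ρ γ) * μ by group, h1,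
        show ρ γ * (ρ γ * μ) * μ = (ρ γ * ρ γ) * (μ * μ) by group, h2, mul_one, hγ2]
  refine hM₁lt.not_ge (sup_le (commutator_le.mpr fun f hf w hw => ?_) ((closure_le _).mpr ?_))
  · refine (QuotientGroup.eq_one_iff _).mp ?_
    show ρ ⁅f, w⁆ = 1
    rw [map_commutatorElement, commutatorElement_eq_one_iff_mul_comm]
    exact hcen f hf w hw
  · rintro _ ⟨f, hf, rfl⟩
    refine (QuotientGroup.eq_one_iff _).mp ?_
    show ρ (f * f) = 1
    rw [map_mul]; exact helem f hf

end Cfsg.Agent.Signalizer.AltFive
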