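import Mathlib

/-!
Counting lemmas for quadratic maps on an elementary abelian group of order 16 that are invariant
under a fixed-point-free automorphism of order five.
-/

set_option autoImplicit false

namespace Cfsg.Agent.Signalizer.AltFive

/-- A map of prime period: the number of fixed points is congruent to the number of points. -/
theorem mod_card {α : Type*} [Finite α] (f : α → α) (p : ℕ) [Fact p.Prime] (hf : f^[p] = id) :
    Nat.card α ≡ Nat.card {x : α // f x = x} [MOD p] := by
  classical
  have := Fintype.ofFinite α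
  let g : Function.End α := f
  have hg : g ^ p ^ 1 = 1 := by
    rw [pow_one]
    have : ∀ k : ℕ, (g ^ k : Function.End α) = f^[k] := by
      intro k
      induction k with
      | zero => rfl
      | succ k ih =>
        rw [pow_succ, ih, Function.iterate_succ]
        rfl
    rw [this, hf]
    rfl
  have h := Equiv.Perm.card_fixedPoints_modEq hg
  rw [Nat.card_eq_fintype_card, Nat.card_eq_fintype_card]
  convert h using 2
  rfl

variable {V : Type*} [Group V] [Finite V]

/-- An automorphism of prime period on an invariant set. -/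
theorem mod_set {p : ℕ} [Fact p.Prime] (σ : V ≃* V) (hσ : (⇑σ)^[p] = id) (S : Set V)
    (hS : ∀ v ∈ S, σ v ∈ S) : S.ncard ≡ {v | v ∈ S ∧ σ v = v}.ncard [MOD p] := by
  let f : S → S := fun v => ⟨σ v, hS v v.2⟩
  have hf : f^[p] = id := by
    funext v
    apply Subtype.ext
    have : ∀ k, ((f^[k] v : S) : V) = (⇑σ)^[k] (v : V) := by
      intro k
      induction k with
      | zero => rfl
      | succ k ih => rw [Function.iterate_succ_apply', Function.iterate_succ_apply', ← ih]
    rw [this, hσ]; rfl
  have h := mod_card f p hf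
  rw [Nat.card_coe_set_eq] at h
  have e : {x : S // f x = x} ≃ {v | v ∈ S ∧ σ v = v} :=
    { toFun := fun x => ⟨x.1.1, x.1.2, congrArg Subtype.val x.2⟩
      invFun := fun v => ⟨⟨v.1, v.2.1⟩, Subtype.ext v.2.2⟩
      left_inv := fun _ => rfl
      right_inv := fun _ => rfl }
  rwa [Nat.card_congr e, Nat.card_coe_set_eq] at h

theorem five_dvd (σ : V ≃* V) (hσ : (⇑σ)^[5] = id) (hfix : ∀ v, σ v = v → v = 1) (S : Set V)
    (hS : ∀ v ∈ S, σ v ∈ S) (h1 : (1 : V) ∉ S) : 5 ∣ S.ncard := by
  have : Fact (Nat.Prime 5) := ⟨by norm_num⟩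
  have h := mod_set σ hσ S hS
  rw [show {v | v ∈ S ∧ σ v = v} = (∅ : Set V) from
    Set.eq_empty_of_forall_notMem fun v hv => h1 (hfix v hv.2 ▸ hv.1), Set.ncard_empty] at h
  exact Nat.modEq_zero_iff_dvd.mp h

/-- Translation by an involution pairs off an invariant set. -/
theorem even_of_translation {a : V} (ha : a * a = 1) (ha1 : a ≠ 1) (S : Set V)
    (hS : ∀ v ∈ S, a * v ∈ S) : 2 ∣ S.ncard := by
  have : Fact (Nat.Prime 2) := ⟨Nat.prime_two⟩
  let f : S → S := fun v => ⟨a * v, hS v v.2⟩
  have hf : f^[2] = id := by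
    funext v
    apply Subtype.ext
    show a * (a * (v : V)) = v
    rw [← mul_assoc, ha, one_mul]
  have h := mod_card f 2 hf
  have : IsEmpty {x : S // f x = x} := ⟨fun x => ha1 (mul_eq_right.mp (congrArg Subtype.val x.2))⟩
  rw [Nat.card_coe_set_eq, Nat.card_eq_zero.mpr (Or.inl inferInstance)] at h
  exact Nat.modEq_zero_iff_dvd.mp h

end Cfsg.Agent.Signalizer.AltFive
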