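import Cfsg.Prelude.Def_CaseTheorems
import Cfsg.Agent.Signalizer.AltFiveRadical.Count

/-!
An element of order five and an element inverting it, acting fixed-point-freely on two layers of
order 16 of a 2-group, give an elementary abelian section of order 32.
-/

set_option autoImplicit false

namespace Cfsg.Agent.Signalizer.AltFive

open Subgroup

variable {Y : Type*} [Group Y] [Finite Y]

omit [Finite Y] in
theorem mem_centralizer_singleton {g x : Y} : x ∈ centralizer ({g} : Set Y) ↔ g * x = x * g := by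
  rw [mem_centralizer_iff]
  exact ⟨fun h => h g rfl, fun h _ hg => (Set.mem_singleton_iff.mp hg) ▸ h⟩

omit [Finite Y] in
theorem conj_fixed_iff {g x : Y} : g * x * g⁻¹ = x ↔ g * x = x * g := mul_inv_eq_iff_eq_mul

/-- An element of order five on an elementary layer of order at most 16. -/
theorem layer16 (N : Subgroup Y) [hN : N.Normal] (he : ∀ n ∈ N, n * n = 1) (c : Y)
    (hc5 : ∀ n ∈ N, c ^ 5 * n = n * c ^ 5) (hle : Nat.card N ≤ 16)
    (hnt : ∃ n ∈ N, c * n ≠ n * c) :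
    Nat.card N = 16 ∧ ∀ n ∈ N, c * n = n * c → n = 1 := by
  have : Fact (Nat.Prime 5) := ⟨by norm_num⟩
  have : Fact (Nat.Prime 2) := ⟨Nat.prime_two⟩
  have h2 : IsPGroup 2 N := fun n => ⟨1, Subtype.ext (by rw [pow_one, pow_two]; exact he n n.2)⟩
  let f : N → N := fun n => ⟨c * n * c⁻¹, hN.conj_mem n n.2 c⟩
  have hit : ∀ (k : ℕ) (n : N), ((f^[k] n : N) : Y) = c ^ k * n * (c ^ k)⁻¹ := by
    intro k
    induction k with
    | zero => intro n; simp
    | succ k ih =>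
      intro n
      rw [Function.iterate_succ_apply']
      show c * ((f^[k] n : N) : Y) * c⁻¹ = _
      rw [ih, pow_succ']; group
  have hf : f^[5] = id := funext fun n => Subtype.ext <| by
    rw [hit, hc5 n n.2, mul_inv_cancel_right]; rfl
  have h := mod_card f 5 hf
  set C := N ⊓ centralizer ({c} : Set Y) with hC
  have e : {x : N // f x = x} ≃ C :=
    { toFun := fun x => ⟨x.1, x.1.2,
        mem_centralizer_singleton.mpr (conj_fixed_iff.mp (congrArg Subtype.val x.2))⟩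
      invFun := fun x => ⟨⟨x.1, x.2.1⟩,
        Subtype.ext (conj_fixed_iff.mpr (mem_centralizer_singleton.mp x.2.2))⟩
      left_inv := fun _ => rfl
      right_inv := fun _ => rfl }
  rw [Nat.card_congr e] at h
  obtain ⟨m, hm⟩ := IsPGroup.iff_card.mp h2
  obtain ⟨k, hk⟩ := IsPGroup.iff_card.mp (h2.to_le (inf_le_left : C ≤ N))
  obtain ⟨n, hn, hcn⟩ := hnt
  have hlt : Nat.card C < Nat.card N := by
    refine Set.ncard_lt_ncard (s := (C : Set Y)) (t := (N : Set Y)) ?_ (Set.toFinite _) |>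
      fun h => by simpa [← Nat.card_coe_set_eq] using h
    exact ⟨fun x hx => hx.1, fun hs => hcn (mem_centralizer_singleton.mp (hs hn).2)⟩
  rw [hm, hk] at h hlt
  have hm4 : m ≤ 4 := (Nat.pow_le_pow_iff_right (a := 2) (by norm_num)).mp (hm ▸ hle)
  have hkm : k < m := (Nat.pow_lt_pow_iff_right (a := 2) (by norm_num)).mp hlt
  have hk0 : m = 4 ∧ k = 0 := by
    interval_cases m <;> interval_cases k <;> simp_all [Nat.ModEq]
  refine ⟨by rw [hm, hk0.1]; rfl, fun x hx hcx => ?_⟩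
  rw [hk0.2, pow_zero, Subgroup.card_eq_one] at hk
  have hxC : x ∈ C := ⟨hx, mem_centralizer_singleton.mpr hcx⟩
  rw [hC, hk] at hxC
  exact mem_bot.mp hxC

/-- The fixed points of an element inverting a fixed-point-free element of order five. -/
theorem invol_layer (N : Subgroup Y) [hN : N.Normal] (he : ∀ n ∈ N, n * n = 1) (c s : Y)
    (hc5 : ∀ n ∈ N, c ^ 5 * n = n * c ^ 5) (hs2 : ∀ n ∈ N, s ^ 2 * n = n * s ^ 2)
    (hinv : ∀ n ∈ N, s * c * s⁻¹ * c * n = n * (s * c * s⁻¹ * c))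
    (hfix : ∀ n ∈ N, c * n = n * c → n = 1) (hcard : Nat.card N = 16) :
    Nat.card ↥(N ⊓ centralizer ({s} : Set Y)) = 4 ∧
      ∀ u ∈ N, s * u = u * s → ∃ b ∈ N, u = b * (s * b * s⁻¹) := by
  have hcomm : ∀ a ∈ N, ∀ b ∈ N, a * b = b * a := by
    intro a ha b hb
    have h := he _ (mul_mem ha hb)
    calc a * b = (a * b)⁻¹ := eq_inv_of_mul_eq_one_left h
      _ = b⁻¹ * a⁻¹ := mul_inv_rev a b
      _ = b * a := by rw [inv_eq_of_mul_eq_one_right (he a ha), inv_eq_of_mul_eq_one_right (he b hb)]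
  set C := N ⊓ centralizer ({s} : Set Y) with hC
  have hmemC : ∀ x, x ∈ C ↔ x ∈ N ∧ s * x = x * s := fun x =>
    ⟨fun h => ⟨h.1, mem_centralizer_singleton.mp h.2⟩, fun h => ⟨h.1, mem_centralizer_singleton.mpr h.2⟩⟩
  let τ : N →* N := MonoidHom.mk' (fun n => ⟨(n : Y) * (s * n * s⁻¹), mul_mem n.2 (hN.conj_mem n n.2 s)⟩)
    fun a b => Subtype.ext <| by
      show (a : Y) * b * (s * ((a : Y) * b) * s⁻¹) = a * (s * a * s⁻¹) * (b * (s * b * s⁻¹))
      have hsa := hN.conj_mem a a.2 s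
      have h1 := hcomm b b.2 _ hsa
      calc (a : Y) * b * (s * ((a : Y) * b) * s⁻¹) = a * (b * (s * a * s⁻¹)) * (s * b * s⁻¹) := by group
        _ = a * ((s * a * s⁻¹) * b) * (s * b * s⁻¹) := by rw [h1]
        _ = _ := by group
  have hker : τ.ker = C.subgroupOf N := by
    ext n
    rw [MonoidHom.mem_ker, mem_subgroupOf, hmemC, ← conj_fixed_iff]
    constructor
    · intro h
      have h' : (n : Y) * (s * n * s⁻¹) = 1 := congrArg Subtype.val h
      exact ⟨n.2, mul_left_cancel (h'.trans (he n n.2).symm)⟩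
    · intro h
      exact Subtype.ext (show (n : Y) * (s * n * s⁻¹) = 1 by rw [h.2]; exact he n n.2)
  have hrange : τ.range.map N.subtype ≤ C := by
    rintro _ ⟨_, ⟨n, rfl⟩, rfl⟩
    refine (hmemC _).mpr ⟨(τ n).2, conj_fixed_iff.mp ?_⟩
    show s * ((n : Y) * (s * n * s⁻¹)) * s⁻¹ = n * (s * n * s⁻¹)
    calc s * ((n : Y) * (s * n * s⁻¹)) * s⁻¹ = (s * n * s⁻¹) * (s ^ 2 * n * (s ^ 2)⁻¹) := by
          rw [pow_two]; group
      _ = (s * n * s⁻¹) * n := by rw [hs2 n n.2, mul_inv_cancel_right]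
      _ = n * (s * n * s⁻¹) := hcomm _ (hN.conj_mem n n.2 s) n n.2
  have hinj : Function.Injective
      (fun p : C × C => (⟨(p.1 : Y) * (c * p.2 * c⁻¹),
        mul_mem p.1.2.1 (hN.conj_mem _ p.2.2.1 c)⟩ : N)) := by
    rintro ⟨u, v⟩ ⟨u', v'⟩ h
    have h' : (u : Y) * (c * v * c⁻¹) = u' * (c * v' * c⁻¹) := congrArg Subtype.val h
    set w := (v : Y) * (v' : Y)⁻¹ with hw
    have hwC : w ∈ C := mul_mem v.2 (inv_mem v'.2)
    have hwn : c * w * c⁻¹ = (u : Y)⁻¹ * u' := by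
      calc c * w * c⁻¹ = (u : Y)⁻¹ * ((u : Y) * (c * v * c⁻¹)) * (c * v' * c⁻¹)⁻¹ := by rw [hw]; group
        _ = _ := by rw [h']; group
    have hfixs : s * (c * w * c⁻¹) * s⁻¹ = c * w * c⁻¹ :=
      conj_fixed_iff.mpr ((hmemC _).mp (hwn.symm ▸ mul_mem (inv_mem u.2) u'.2)).2
    set g := s * c * s⁻¹ * c with hg
    have hsw : s * (c * w * c⁻¹) * s⁻¹ = c⁻¹ * w * c := by
      have h1 : s * w * s⁻¹ = w := conj_fixed_iff.mpr ((hmemC w).mp hwC).2
      have h2 : g * (c⁻¹ * w * c) * g⁻¹ = c⁻¹ * w * c := by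
        rw [hinv _ (by simpa using hN.conj_mem w hwC.1 c⁻¹), mul_inv_cancel_right]
      rw [← h2, hg]
      conv_lhs => rw [show s * (c * w * c⁻¹) * s⁻¹ = (s * c * s⁻¹) * (s * w * s⁻¹) * (s * c * s⁻¹)⁻¹ by group, h1]
      group
    have h2 : c ^ 2 * w = w * c ^ 2 := by
      have := hfixs.symm.trans hsw
      calc c ^ 2 * w = c * (c * w * c⁻¹) * c := by rw [pow_two]; group
        _ = c * (c⁻¹ * w * c) * c := by rw [this]
        _ = w * c ^ 2 := by rw [pow_two]; group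
    have h6 : Commute (c ^ 6) w := by
      have : Commute (c ^ 2) w := h2
      simpa [← pow_mul] using this.pow_left 3
    have hw1 : w = 1 := hfix w hwC.1 (by
      have h5 : Commute (c ^ 5) w := hc5 w hwC.1
      have := (h5.inv_left).mul_left h6
      rwa [show (c ^ 5)⁻¹ * c ^ 6 = c by rw [pow_succ c 5]; group] at this)
    have hv : v = v' := Subtype.ext (mul_inv_eq_one.mp hw1)
    have hu : u = u' := by
      rw [hw1, mul_one, mul_inv_cancel] at hwn
      exact Subtype.ext (inv_mul_eq_one.mp hwn.symm)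
    rw [hu, hv]
  have hle := Nat.card_le_card_of_injective _ hinj
  rw [Nat.card_prod, hcard] at hle
  have hmul := Subgroup.index_mul_card τ.ker
  rw [Subgroup.index_ker, hker,
    Nat.card_congr (Subgroup.subgroupOfEquivOfLe (inf_le_left : C ≤ N)).toEquiv, hcard,
    ← Subgroup.card_map_of_injective (f := N.subtype) N.subtype_injective] at hmul
  have hrle := Subgroup.card_le_of_le hrange
  have h4 : Nat.card C ≤ 4 := by nlinarith
  have h4' : Nat.card C = 4 := by nlinarith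
  refine ⟨h4', fun u hu hsu => ?_⟩
  have hr4 : Nat.card ↥(τ.range.map N.subtype) = 4 := by
    rw [h4'] at hmul; omega
  have heq : τ.range.map N.subtype = C :=
    Subgroup.eq_of_le_of_card_ge hrange (by rw [hr4, h4'])
  obtain ⟨_, ⟨b, rfl⟩, hb⟩ := heq.symm ▸ ((hmemC u).mpr ⟨hu, hsu⟩)
  exact ⟨b, b.2, hb.symm⟩

omit [Finite Y] in
theorem card_eq_map_mul {Z : Type*} [Group Z] (f : Y →* Z) (U : Subgroup Y) (h : f.ker ≤ U) :
    Nat.card U = Nat.card (U.map f) * Nat.card f.ker := by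
  rw [← Subgroup.index_mul_card (f.comp U.subtype).ker, Subgroup.index_ker, MonoidHom.range_comp,
    U.range_subtype, show (f.comp U.subtype).ker = f.ker.subgroupOf U from rfl, Nat.card_congr (Subgroup.subgroupOfEquivOfLe h).toEquiv]

/-- The section of rank five. -/
theorem not_rank_four (N F : Subgroup Y) [hNn : N.Normal] [hFn : F.Normal] (hFN : F ≤ N)
    (hFc : ∀ f ∈ F, ∀ n ∈ N, f * n = n * f) (hFe : ∀ f ∈ F, f * f = 1)
    (hsq : ∀ n ∈ N, n * n ∈ F) (hF : Nat.card F = 16)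
    (hV : Nat.card (N.map (QuotientGroup.mk' F)) = 16)
    (c s : Y) (hc5 : c ^ 5 ∈ N) (hsN : s ∉ N) (hs2 : s * s ∈ N) (hinv : s * c * s⁻¹ * c ∈ N)
    (hfixF : ∀ f ∈ F, c * f = f * c → f = 1)
    (hfixV : ∀ n ∈ N, c * n * c⁻¹ * n⁻¹ ∈ F → n ∈ F) :
    ¬ Cfsg.SectionalPRankLE 2 4 Y := by
  intro hrank
  let π := QuotientGroup.mk' F
  have hπ : ∀ a b : Y, π a = π b ↔ b * a⁻¹ ∈ F := fun a b => by
    rw [← hFn.mem_comm_iff]; exact QuotientGroup.eq
  have hk : π.ker = F := QuotientGroup.ker_mk' F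
  set M := N.map π with hMdef
  have hMn : M.Normal := hNn.map π (QuotientGroup.mk'_surjective F)
  have hMe : ∀ m ∈ M, m * m = 1 := by
    rintro _ ⟨n, hn, rfl⟩
    rw [← map_mul]; exact (QuotientGroup.eq_one_iff _).mpr (hsq n hn)
  have hMc : ∀ g ∈ N, ∀ m ∈ M, π g * m = m * π g := by
    intro g hg m hm
    have hgm : π g ∈ M := ⟨g, hg, rfl⟩
    have h := hMe _ (mul_mem hgm hm)
    calc π g * m = (π g * m)⁻¹ := eq_inv_of_mul_eq_one_left h
      _ = m⁻¹ * (π g)⁻¹ := mul_inv_rev _ _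
      _ = m * π g := by rw [inv_eq_of_mul_eq_one_right (hMe m hm), inv_eq_of_mul_eq_one_right (hMe _ hgm)]
  have hMfix : ∀ m ∈ M, π c * m = m * π c → m = 1 := by
    rintro _ ⟨n, hn, rfl⟩ h
    refine (QuotientGroup.eq_one_iff _).mpr (hfixV n hn ((QuotientGroup.eq_one_iff _).mp ?_))
    show π (c * n * c⁻¹ * n⁻¹) = 1
    simp only [map_mul, map_inv]
    rw [h]; group
  -- adjust `s` so that its square lies in `F`
  obtain ⟨hM4, hMim⟩ := invol_layer M hMe (π c) (π s)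
    (fun m hm => by rw [← map_pow]; exact hMc _ hc5 m hm)
    (fun m hm => by rw [← map_pow, pow_two]; exact hMc _ hs2 m hm)
    (fun m hm => by simp only [← map_mul, ← map_inv]; exact hMc _ hinv m hm) hMfix hV
  obtain ⟨_, ⟨b, hb, rfl⟩, hzb⟩ := hMim (π (s * s)) ⟨_, hs2, rfl⟩ (by rw [← map_mul, ← map_mul, mul_assoc])
  obtain ⟨s, hsN, hs2F, hinv⟩ : ∃ t, t ∉ N ∧ t * t ∈ F ∧ t * c * t⁻¹ * c ∈ N := by
    have hMb : π b ∈ M := ⟨b, hb, rfl⟩
    refine ⟨b * s, fun h => hsN (by simpa using mul_mem (inv_mem hb) h), ?_, ?_⟩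
    · refine (QuotientGroup.eq_one_iff _).mp ?_
      show π (b * s * (b * s)) = 1
      rw [map_mul] at hzb
      calc π (b * s * (b * s)) = π b * (π s * π b * (π s)⁻¹) * (π s * π s) := by
            simp only [map_mul]; group
        _ = (π b * (π s * π b * (π s)⁻¹)) * (π b * (π s * π b * (π s)⁻¹)) := by rw [hzb]
        _ = 1 := hMe _ (mul_mem hMb (hMn.conj_mem _ hMb _))
    · have h1 : b * s * c * (b * s)⁻¹ * c = b * ((s * c * s⁻¹ * c) * (c⁻¹ * b⁻¹ * c)) := by group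
      rw [h1]
      exact mul_mem hb (mul_mem hinv (by simpa using hNn.conj_mem _ (inv_mem hb) c⁻¹))
  have hs2 : s * s ∈ N := hFN hs2F
  obtain ⟨hF4, -⟩ := invol_layer F hFe c s (fun f hf => (hFc f hf _ hc5).symm)
    (fun f hf => by rw [pow_two]; exact (hFc f hf _ hs2).symm)
    (fun f hf => (hFc f hf _ hinv).symm) hfixF hF
  obtain ⟨hM4, hMim⟩ := invol_layer M hMe (π c) (π s)
    (fun m hm => by rw [← map_pow]; exact hMc _ hc5 m hm)
    (fun m hm => by rw [← map_pow, pow_two]; exact hMc _ hs2 m hm)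
    (fun m hm => by simp only [← map_mul, ← map_inv]; exact hMc _ hinv m hm) hMfix hV
  set K := F ⊓ centralizer ({s} : Set Y) with hK
  set U := N ⊓ (centralizer ({π s} : Set (Y ⧸ F))).comap π with hUdef
  have hUN : U ≤ N := inf_le_left
  have hFU : F ≤ U := fun f hf => ⟨hFN hf, mem_comap.mpr (by
    rw [show π f = 1 from (QuotientGroup.eq_one_iff _).mpr hf]; exact one_mem _)⟩
  have hUmap : U.map π = M ⊓ centralizer ({π s} : Set (Y ⧸ F)) := by
    apply le_antisymm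
    · rintro _ ⟨u, hu, rfl⟩
      exact ⟨⟨u, hu.1, rfl⟩, hu.2⟩
    · rintro _ ⟨⟨u, hu, rfl⟩, hu2⟩
      exact ⟨u, ⟨hu, hu2⟩, rfl⟩
  have hU64 : Nat.card U = 64 := by
    rw [card_eq_map_mul π U (hk.le.trans hFU), hUmap, hM4, hk, hF]
  -- conjugation by `s` on `U`
  have hw : ∀ u ∈ U, u⁻¹ * (s * u * s⁻¹) ∈ K := by
    intro u hu
    have hsu : π s * π u = π u * π s := mem_centralizer_singleton.mp hu.2
    obtain ⟨_, ⟨b, hb, rfl⟩, hub⟩ := hMim (π u) ⟨u, hu.1, rfl⟩ hsu
    set b' := s * b * s⁻¹ with hb'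
    have hb'N : b' ∈ N := hNn.conj_mem b hb s
    set f := (b * b')⁻¹ * u with hf
    have hfF : f ∈ F := (QuotientGroup.eq_one_iff _).mp (by
      show π ((b * b')⁻¹ * u) = 1
      rw [map_mul, map_inv, hub, hb']
      simp only [map_mul, map_inv]
      group)
    have hu' : u = b * b' * f := by rw [hf]; group
    have hbb : s * b' * s⁻¹ = b := by
      rw [hb', show s * (s * b * s⁻¹) * s⁻¹ = (s * s) * b * (s * s)⁻¹ by group, hFc _ hs2F b hb,
        mul_inv_cancel_right]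
    have hsf : s * f * s⁻¹ ∈ F := hFn.conj_mem f hfF s
    have hsu' : s * u * s⁻¹ = b' * b * (s * f * s⁻¹) := by
      conv_lhs => rw [hu', show s * (b * b' * f) * s⁻¹ = (s * b * s⁻¹) * (s * b' * s⁻¹) * (s * f * s⁻¹) by group, hbb]
    set γ := (b * b')⁻¹ * (b' * b) with hγ
    have hγF : γ ∈ F := (QuotientGroup.eq_one_iff _).mp (by
      show π ((b * b')⁻¹ * (b' * b)) = 1
      simp only [map_mul, map_inv]
      rw [hMc b hb _ ⟨b', hb'N, rfl⟩]; group)
    have hwe : u⁻¹ * (s * u * s⁻¹) = γ * (f * (s * f * s⁻¹)) := by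
      rw [hsu']
      conv_lhs => rw [hu']
      calc (b * b' * f)⁻¹ * (b' * b * (s * f * s⁻¹))
          = f⁻¹ * γ * (s * f * s⁻¹) := by rw [hγ]; group
        _ = γ * f⁻¹ * (s * f * s⁻¹) := by rw [← hFc γ hγF _ (hFN (inv_mem hfF))]
        _ = γ * (f * (s * f * s⁻¹)) := by
          rw [inv_eq_of_mul_eq_one_right (hFe f hfF), mul_assoc]
    rw [hwe]
    have hKm : ∀ x, x ∈ F → s * x * s⁻¹ = x → x ∈ K := fun x hx h =>
      ⟨hx, mem_centralizer_singleton.mpr (conj_fixed_iff.mp h)⟩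
    refine mul_mem (hKm γ hγF ?_) (hKm _ (mul_mem hfF hsf) ?_)
    · calc s * γ * s⁻¹ = ((s * b * s⁻¹) * (s * b' * s⁻¹))⁻¹ * ((s * b' * s⁻¹) * (s * b * s⁻¹)) := by
            rw [hγ]; group
        _ = (b' * b)⁻¹ * (b * b') := by rw [hbb, ← hb']
        _ = γ⁻¹ := by rw [hγ]; group
        _ = γ := inv_eq_of_mul_eq_one_right (hFe γ hγF)
    · calc s * (f * (s * f * s⁻¹)) * s⁻¹ = (s * f * s⁻¹) * ((s * s) * f * (s * s)⁻¹) := by group
        _ = (s * f * s⁻¹) * f := by rw [hFc _ hs2F f (hFN hfF), mul_inv_cancel_right]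
        _ = f * (s * f * s⁻¹) := (hFc f hfF _ (hFN hsf)).symm
  have hKU : K ≤ U := inf_le_left.trans hFU
  have hsq' : ∀ u ∈ U, u * u ∈ K := by
    intro u hu
    obtain ⟨hwF, -⟩ := hw u hu
    set w := u⁻¹ * (s * u * s⁻¹) with hwdef
    refine ⟨hsq u hu.1, mem_centralizer_singleton.mpr (conj_fixed_iff.mp ?_)⟩
    have : s * u * s⁻¹ = u * w := by rw [hwdef]; group
    calc s * (u * u) * s⁻¹ = (s * u * s⁻¹) * (s * u * s⁻¹) := by group
      _ = (u * w) * (u * w) := by rw [this]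
      _ = u * (w * u) * w := by group
      _ = u * (u * w) * w := by rw [hFc w hwF u hu.1]
      _ = u * u * (w * w) := by group
      _ = u * u := by rw [hFe w hwF, mul_one]
  have hs2K : s * s ∈ K := ⟨hs2F, mem_centralizer_singleton.mpr (by group)⟩
  have hsU : ∀ u ∈ U, s * u * s⁻¹ ∈ U := fun u hu => by
    have := mul_mem hu (hKU (hw u hu))
    rwa [← mul_assoc, mul_inv_cancel, one_mul] at this
  let H : Subgroup Y :=
    { carrier := {h | h ∈ U ∨ h * s⁻¹ ∈ U}
      mul_mem' := by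
        rintro x y (hx | hx) (hy | hy)
        · exact Or.inl (mul_mem hx hy)
        · exact Or.inr (by rw [mul_assoc]; exact mul_mem hx hy)
        · refine Or.inr ?_
          rw [show x * y * s⁻¹ = (x * s⁻¹) * (s * y * s⁻¹) by group]
          exact mul_mem hx (hsU y hy)
        · refine Or.inl ?_
          rw [show x * y = (x * s⁻¹) * (s * (y * s⁻¹) * s⁻¹) * (s * s) by group]
          exact mul_mem (mul_mem hx (hsU _ hy)) (hKU hs2K)
      one_mem' := Or.inl (one_mem _)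
      inv_mem' := by
        rintro x (hx | hx)
        · exact Or.inl (inv_mem hx)
        · refine Or.inr ?_
          rw [show x⁻¹ * s⁻¹ = (s * s)⁻¹ * (s * (x * s⁻¹)⁻¹ * s⁻¹) by group]
          exact mul_mem (inv_mem (hKU hs2K)) (hsU _ (inv_mem hx)) }
  have hsqH : ∀ h ∈ H, h * h ∈ K := by
    rintro h (hh | hh)
    · exact hsq' h hh
    · rw [show h * h = ((h * s⁻¹) * (h * s⁻¹)) * ((h * s⁻¹)⁻¹ * (s * (h * s⁻¹) * s⁻¹)) * (s * s) by group]
      exact mul_mem (mul_mem (hsq' _ hh) (hw _ hh)) hs2K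
  have hKn : (K.subgroupOf H).Normal := by
    refine ⟨fun k hk g => ?_⟩
    rw [mem_subgroupOf] at hk ⊢
    have key : (g : Y) * k * (g : Y)⁻¹ = k := by
      have hkF : (k : Y) ∈ F := hk.1
      rcases g.2 with hg | hg
      · rw [← hFc _ hkF _ (hUN hg), mul_inv_cancel_right]
      · calc (g : Y) * k * (g : Y)⁻¹
            = ((g : Y) * s⁻¹) * (s * k * s⁻¹) * ((g : Y) * s⁻¹)⁻¹ := by group
          _ = ((g : Y) * s⁻¹) * k * ((g : Y) * s⁻¹)⁻¹ := by
            rw [conj_fixed_iff.mpr (mem_centralizer_singleton.mp hk.2)]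
          _ = k := by rw [← hFc _ hkF _ (hUN hg), mul_inv_cancel_right]
    show (g : Y) * k * (g : Y)⁻¹ ∈ K
    rw [key]; exact hk
  have h2 : ∀ a : H ⧸ K.subgroupOf H, a ^ 2 = 1 := by
    intro a
    induction a using QuotientGroup.induction_on with
    | H h =>
      rw [← QuotientGroup.mk_pow, QuotientGroup.eq_one_iff, mem_subgroupOf]
      simpa [pow_two] using hsqH h h.2
  have hr := hrank H (K.subgroupOf H) ⊤ ⟨⟨fun a b => Subtype.ext ?_⟩⟩ (fun a _ => h2 a)
  swap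
  · have hinv' : ∀ z : H ⧸ K.subgroupOf H, z⁻¹ = z := fun z =>
      inv_eq_of_mul_eq_one_right (by rw [← pow_two]; exact h2 z)
    show (a : H ⧸ K.subgroupOf H) * b = b * a
    rw [← hinv' (↑a * ↑b), mul_inv_rev, hinv', hinv']
  have hcardH : 128 ≤ Nat.card H := by
    have hUH : U ≤ H := fun u hu => Or.inl hu
    have hsH : s ∈ H := Or.inr (by rw [mul_inv_cancel]; exact one_mem _)
    obtain ⟨j, hj⟩ := Subgroup.card_dvd_of_le hUH
    have hne : U ≠ H := fun h => hsN (hUN (h.symm ▸ hsH))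
    have hlt : j ≠ 1 := fun h1 => hne (Subgroup.eq_of_le_of_card_ge hUH (by rw [hj, h1, mul_one]))
    have hpos : 0 < Nat.card H := Nat.card_pos
    rw [hj] at hpos ⊢
    rw [hU64] at hpos ⊢
    omega
  rw [Subgroup.card_top] at hr
  have hm := Subgroup.index_mul_card (K.subgroupOf H)
  rw [Nat.card_congr (Subgroup.subgroupOfEquivOfLe (hKU.trans fun u hu => Or.inl hu)).toEquiv,
    Subgroup.index_eq_card, hF4] at hm
  omega

end Cfsg.Agent.Signalizer.AltFive
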