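import Mathlib
import Cfsg.Agent.PGroups.TwoGroups
import Cfsg.Agent.Signalizer.AltFiveRadical.Section

/-!
A group of order 32 with centre of order two and five classes of involutions modulo the centre is
the central product of a quaternion and a dihedral group of order 8.
-/

set_option autoImplicit false

namespace Cfsg.Agent.Signalizer.AltFive

open Subgroup

variable {P : Type*} [Group P] [Finite P]

omit [Finite P] in
theorem closure_pair_card (Φ : Subgroup P) [Φ.Normal] (x y : P)
    (hV : ∀ v : P ⧸ Φ, v * v = 1) :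
    Set.ncard ((closure ({x, y} : Set P)).map (QuotientGroup.mk' Φ) : Set (P ⧸ Φ)) ≤ 4 := by
  classical
  set u : P ⧸ Φ := ↑x
  set w : P ⧸ Φ := ↑y
  have hcomm : ∀ a b : P ⧸ Φ, a * b = b * a := fun a b => by
    calc a * b = (a * b)⁻¹ := eq_inv_of_mul_eq_one_left (hV _)
      _ = b⁻¹ * a⁻¹ := mul_inv_rev _ _
      _ = b * a := by rw [inv_eq_of_mul_eq_one_right (hV a), inv_eq_of_mul_eq_one_right (hV b)]
  let T : Subgroup (P ⧸ Φ) :=
    { carrier := Set.range fun p : Bool × Bool => (if p.1 then u else 1) * (if p.2 then w else 1)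
      mul_mem' := by
        rintro _ _ ⟨⟨a, b⟩, rfl⟩ ⟨⟨a', b'⟩, rfl⟩
        refine ⟨(xor a a', xor b b'), ?_⟩
        have key : ∀ (v : P ⧸ Φ) (i j : Bool),
            (if xor i j then v else 1) = (if i then v else 1) * (if j then v else 1) := by
          intro v i j; cases i <;> cases j <;> simp [hV]
        simp only [key]
        rw [mul_assoc, mul_assoc]
        congr 1
        rw [← mul_assoc, ← mul_assoc, hcomm (if a' then u else 1)]
      one_mem' := ⟨(false, false), by simp⟩
      inv_mem' := by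
        intro v hv
        rw [inv_eq_of_mul_eq_one_right (hV v)]; exact hv }
  have hle : (closure ({x, y} : Set P)).map (QuotientGroup.mk' Φ) ≤ T := by
    rw [map_le_iff_le_comap, closure_le]
    rintro g (rfl | rfl)
    · exact ⟨(true, false), by simp [u]⟩
    · exact ⟨(false, true), by simp [w]⟩
  refine (Set.ncard_le_ncard (t := (T : Set (P ⧸ Φ))) hle ?_).trans ?_
  · exact Set.finite_range _
  · show (Set.range _).ncard ≤ 4
    rw [← Nat.card_coe_set_eq]
    exact (Finite.card_range_le _).trans (by simp)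

/-- The central product structure. -/
theorem central_product (hcard : Nat.card P = 32) (Φ : Subgroup P) [hΦn : Φ.Normal]
    (hΦ : Nat.card Φ = 2) (hsq : ∀ g : P, g * g ∈ Φ) (hcen : Subgroup.center P = Φ)
    (Z : Set (P ⧸ Φ)) (hZ : Z.ncard = 5)
    (hZmem : ∀ g : P, (g : P ⧸ Φ) ∈ Z ↔ g ∉ Φ ∧ g * g = 1) :
    ∃ A B : Subgroup P, Nonempty (↥A ≃* QuaternionGroup 2) ∧ Nonempty (↥B ≃* DihedralGroup 4) ∧
      (∀ a ∈ A, ∀ b ∈ B, a * b = b * a) ∧ A ⊔ B = ⊤ ∧ A ⊓ B = Subgroup.center P := by
  classical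
  obtain ⟨⟨z, hzΦ⟩, hz, huniq⟩ := (Nat.card_eq_two_iff' (1 : Φ)).mp hΦ
  have hz1 : z ≠ 1 := fun h => hz (Subtype.ext h)
  have hΦel : ∀ f ∈ Φ, f = 1 ∨ f = z := fun f hf => by
    by_cases h : f = 1
    · exact Or.inl h
    · exact Or.inr (congrArg Subtype.val (huniq ⟨f, hf⟩ fun e => h (congrArg Subtype.val e)))
  have hzc : ∀ g, g * z = z * g := fun g => mem_center_iff.mp (hcen ▸ hzΦ) g
  have hzz : z * z = 1 := by
    rcases hΦel _ (mul_mem hzΦ hzΦ) with h | h
    · exact h
    · exact absurd (mul_eq_left.mp h) hz1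
  have hV : ∀ v : P ⧸ Φ, v * v = 1 := fun v => by
    obtain ⟨g, rfl⟩ := QuotientGroup.mk_surjective v
    rw [← QuotientGroup.mk_mul, QuotientGroup.eq_one_iff]; exact hsq g
  have hdich : ∀ g h : P, g * h ≠ h * g → g * h = h * g * z := by
    intro g h hne
    have hmem : (h * g)⁻¹ * (g * h) ∈ Φ := by
      rw [← QuotientGroup.eq, QuotientGroup.mk_mul, QuotientGroup.mk_mul]
      calc (h : P ⧸ Φ) * g = ((h : P ⧸ Φ) * g)⁻¹ := eq_inv_of_mul_eq_one_left (hV _)
        _ = (g : P ⧸ Φ)⁻¹ * (h : P ⧸ Φ)⁻¹ := mul_inv_rev _ _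
        _ = g * h := by rw [inv_eq_of_mul_eq_one_right (hV _), inv_eq_of_mul_eq_one_right (hV _)]
    rcases hΦel _ hmem with e | e
    · exact absurd (inv_mul_eq_one.mp e).symm hne
    · rw [← e]; group
  have hnn : ∀ {g k h : P}, g * h ≠ h * g → k * h ≠ h * k → g * k * h = h * (g * k) := by
    intro g k h hg hk
    calc g * k * h = g * (h * k * z) := by rw [mul_assoc, hdich k h hk]
      _ = (g * h) * k * z := by group
      _ = (h * g * z) * k * z := by rw [hdich g h hg]
      _ = h * g * (z * k) * z := by group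
      _ = h * g * (k * z) * z := by rw [hzc k]
      _ = h * (g * k) * (z * z) := by group
      _ = h * (g * k) := by rw [hzz, mul_one]
  have hncen : ∀ g : P, g ∉ Φ → ∃ h, g * h ≠ h * g := by
    intro g hg
    by_contra hne
    exact hg (hcen ▸ mem_center_iff.mpr fun h => (not_not.mp (not_exists.mp hne h)).symm)
  obtain ⟨v, hv⟩ := Set.nonempty_of_ncard_ne_zero (s := Z) (by omega)
  obtain ⟨x, rfl⟩ := QuotientGroup.mk_surjective v
  obtain ⟨hxΦ, hxx⟩ := (hZmem x).mp hv
  obtain ⟨y, hxy, hyy⟩ : ∃ y, x * y ≠ y * x ∧ y * y = 1 := by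
    obtain ⟨y₀, h0⟩ := hncen x hxΦ
    rcases hΦel _ (hsq y₀) with h | h
    · exact ⟨y₀, h0, h⟩
    · refine ⟨x * y₀, fun e => h0 ?_, ?_⟩
      · exact mul_left_cancel (a := x) (by rw [← mul_assoc, ← mul_assoc]; simpa [mul_assoc] using e)
      · calc x * y₀ * (x * y₀) = x * (y₀ * x) * y₀ := by group
          _ = x * (x * y₀ * z) * y₀ := by rw [hdich y₀ x (Ne.symm h0)]
          _ = (x * x) * y₀ * (z * y₀) := by group
          _ = y₀ * (y₀ * z) := by rw [hxx, one_mul, hzc y₀]
          _ = z * z := by rw [← mul_assoc, h]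
          _ = 1 := hzz
  set C := centralizer ({x, y} : Set P) with hC
  have hmemC : ∀ g, g ∈ C ↔ g * x = x * g ∧ g * y = y * g := fun g => by
    rw [hC, mem_centralizer_iff]
    exact ⟨fun h => ⟨(h x (by simp)).symm, (h y (by simp)).symm⟩,
      fun h w hw => by rcases hw with rfl | rfl <;> [exact h.1.symm; exact h.2.symm]⟩
  set D := closure ({x, y} : Set P) with hD
  have hxD : x ∈ D := subset_closure (by simp)
  have hyD : y ∈ D := subset_closure (by simp)
  have hCD : ∀ a ∈ C, ∀ d ∈ D, a * d = d * a := by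
    intro a ha d hd
    induction hd using closure_induction with
    | mem u hu => rcases hu with rfl | rfl <;> [exact ((hmemC a).mp ha).1; exact ((hmemC a).mp ha).2]
    | one => simp
    | mul u w _ _ hu hw => rw [← mul_assoc, hu, mul_assoc, hw, mul_assoc]
    | inv u _ hu => exact (Commute.inv_right hu : Commute a u⁻¹)
  have hdec : ∀ g : P, ∃ d ∈ D, g * d ∈ C := by
    intro g
    have step : ∀ g : P, g * x = x * g → ∃ d ∈ D, g * d ∈ C := by
      intro g hg
      by_cases hgy : g * y = y * g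
      · exact ⟨1, one_mem _, by rw [mul_one, hmemC]; exact ⟨hg, hgy⟩⟩
      · exact ⟨x, hxD, (hmemC _).mpr ⟨by rw [mul_assoc, ← mul_assoc x g, ← hg, mul_assoc], hnn hgy hxy⟩⟩
    by_cases hgx : g * x = x * g
    · exact step g hgx
    · obtain ⟨d, hd, hgd⟩ := step (g * y) (hnn hgx (Ne.symm hxy))
      exact ⟨y * d, mul_mem hyD hd, by rw [← mul_assoc]; exact hgd⟩
  have hcentral : ∀ a ∈ C, (∀ b ∈ C, a * b = b * a) → a ∈ Φ := by
    intro a ha h
    by_contra haΦ
    obtain ⟨g, hg⟩ := hncen a haΦ
    obtain ⟨d, hd, hgd⟩ := hdec g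
    refine hg ?_
    have h1 : Commute a (g * d) := h _ hgd
    have h2 : Commute a d := hCD a ha d hd
    have := h1.mul_right h2.inv_right
    rwa [mul_inv_cancel_right] at this
  have hsix : ∀ a ∈ C, a ∉ Φ → a * a = z := by
    intro a ha haΦ
    rcases hΦel _ (hsq a) with haa | haa
    swap
    · exact haa
    exfalso
    obtain ⟨b₀, hb₀, hab₀⟩ : ∃ b ∈ C, a * b ≠ b * a := by
      by_contra h
      exact haΦ (hcentral a ha fun b hb => not_not.mp fun e => h ⟨b, hb, e⟩)
    obtain ⟨b, hb, hab, hbb⟩ : ∃ b ∈ C, a * b ≠ b * a ∧ b * b = 1 := by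
      rcases hΦel _ (hsq b₀) with h | h
      · exact ⟨b₀, hb₀, hab₀, h⟩
      · refine ⟨a * b₀, mul_mem ha hb₀, fun e => hab₀ ?_, ?_⟩
        · exact mul_left_cancel (a := a) (by simpa [mul_assoc] using e)
        · calc a * b₀ * (a * b₀) = a * (b₀ * a) * b₀ := by group
            _ = a * (a * b₀ * z) * b₀ := by rw [hdich b₀ a (Ne.symm hab₀)]
            _ = (a * a) * b₀ * (z * b₀) := by group
            _ = b₀ * (b₀ * z) := by rw [haa, one_mul, hzc b₀]
            _ = z * z := by rw [← mul_assoc, h]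
            _ = 1 := hzz
    obtain ⟨hax, hay⟩ := (hmemC a).mp ha
    obtain ⟨hbx, hby⟩ := (hmemC b).mp hb
    have hinv : ∀ g k w : P, (g : P ⧸ Φ) = k → (g * w = w * g ↔ k * w = w * k) := by
      intro g k w e
      have hf : g⁻¹ * k ∈ center P := hcen ▸ QuotientGroup.eq.mp e
      have hk : k = g * (g⁻¹ * k) := by group
      rw [hk]
      generalize g⁻¹ * k = f at hf
      have hfw := mem_center_iff.mp hf w
      rw [mul_assoc g f w, ← hfw, ← mul_assoc, ← mul_assoc]
      exact ⟨fun h => by rw [h], fun h => mul_right_cancel h⟩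
    let κ : P ⧸ Φ → List Bool := fun v =>
      [x, y, a, b].map fun w => decide (v.out * w = w * v.out)
    have hκ : ∀ g : P, κ g = [decide (g * x = x * g), decide (g * y = y * g),
        decide (g * a = a * g), decide (g * b = b * g)] := by
      intro g
      have e := QuotientGroup.out_eq' (g : P ⧸ Φ)
      simp only [κ, List.map_cons, List.map_nil, hinv _ _ _ e]
    have hk1 : κ (x : P ⧸ Φ) = [true, false, true, true] := by
      rw [hκ]; simp [hxy, hax.symm, hbx.symm]
    have hk2 : κ (y : P ⧸ Φ) = [false, true, true, true] := by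
      rw [hκ]; simp [Ne.symm hxy, hay.symm, hby.symm]
    have hk3 : κ (a : P ⧸ Φ) = [true, true, true, false] := by
      rw [hκ]; simp [hax, hay, hab]
    have hk4 : κ (b : P ⧸ Φ) = [true, true, false, true] := by
      rw [hκ]; simp [hbx, hby, Ne.symm hab]
    have cmul : ∀ {g k w : P}, g * w ≠ w * g → k * w = w * k → g * k * w ≠ w * (g * k) := by
      intro g k w h1 h2 e
      refine h1 (mul_right_cancel (b := k) ?_)
      calc g * w * k = g * (k * w) := by rw [h2, mul_assoc]
        _ = w * g * k := by rw [← mul_assoc, e, mul_assoc]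
    have cmul' : ∀ {g k w : P}, g * w = w * g → k * w ≠ w * k → g * k * w ≠ w * (g * k) := by
      intro g k w h1 h2 e
      refine h2 (mul_left_cancel (a := g) ?_)
      rw [← mul_assoc, e, ← mul_assoc, ← mul_assoc, ← h1]
    have ceq : ∀ {g k w : P}, g * w = w * g → k * w = w * k → g * k * w = w * (g * k) :=
      fun {g k w} h1 h2 => (Commute.mul_left (h1 : Commute g w) (h2 : Commute k w))
    have hk5 : κ ((x * a : P) : P ⧸ Φ) = [true, false, true, false] := by
      rw [hκ]
      simp [ceq (g := x) (k := a) (w := x) rfl hax, cmul hxy hay, ceq (g := x) (w := a) hax.symm rfl,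
        cmul' hbx.symm hab]
    have hk6 : κ ((y * a : P) : P ⧸ Φ) = [false, true, true, false] := by
      rw [hκ]
      simp [cmul (Ne.symm hxy) hax, ceq (g := y) (k := a) (w := y) rfl hay,
        ceq (g := y) (w := a) hay.symm rfl, cmul' hby.symm hab]
    have hnotΦ : ∀ g : P, κ g ≠ [true, true, true, true] → g ∉ Φ := by
      intro g hg hgΦ
      apply hg
      rw [hκ]
      have hc := mem_center_iff.mp (hcen.symm ▸ hgΦ : g ∈ center P)
      simp [(hc x).symm, (hc y).symm, (hc a).symm, (hc b).symm]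
    have sq2 : ∀ {g k : P}, g * g = 1 → k * k = 1 → g * k = k * g → g * k * (g * k) = 1 := by
      intro g k hg hk h
      calc g * k * (g * k) = g * (k * g) * k := by group
        _ = (g * g) * (k * k) := by rw [← h]; group
        _ = 1 := by rw [hg, hk, one_mul]
    let l : List (P ⧸ Φ) := [(x : P ⧸ Φ), (y : P ⧸ Φ), (a : P ⧸ Φ), (b : P ⧸ Φ),
      ((x * a : P) : P ⧸ Φ), ((y * a : P) : P ⧸ Φ)]
    have hnd : l.Nodup := List.Nodup.of_map κ (by
      simp only [l, List.map_cons, List.map_nil, hk1, hk2, hk3, hk4, hk5, hk6]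
      decide)
    have hlZ : (l.toFinset : Set (P ⧸ Φ)) ⊆ Z := by
      intro w hw
      simp only [List.coe_toFinset, Set.mem_ofPred_eq, l, List.mem_cons, List.not_mem_nil,
        or_false] at hw
      rcases hw with rfl | rfl | rfl | rfl | rfl | rfl <;> refine (hZmem _).mpr ⟨hnotΦ _ ?_, ?_⟩
      all_goals first
        | (rw [hk1]; decide)
        | (rw [hk2]; decide)
        | (rw [hk3]; decide)
        | (rw [hk4]; decide)
        | (rw [hk5]; decide)
        | (rw [hk6]; decide)
        | exact hxx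
        | exact hyy
        | exact haa
        | exact hbb
        | exact sq2 hxx haa hax.symm
        | exact sq2 hyy haa hay.symm
    have := Set.ncard_le_ncard hlZ Z.toFinite
    rw [Set.ncard_coe_finset, List.toFinset_card_of_nodup hnd, hZ] at this
    simp [l] at this
  obtain ⟨a, ha, b, hb, hab⟩ : ∃ a ∈ C, ∃ b ∈ C, a * b ≠ b * a := by
    by_contra h
    have hCΦ : C ≤ Φ := fun a ha => hcentral a ha fun b hb => not_not.mp fun e => h ⟨a, ha, b, hb, e⟩
    have hD8 : Nat.card D ≤ 8 := by
      rw [card_eq_map_mul (QuotientGroup.mk' Φ) D ?_, QuotientGroup.ker_mk', hΦ]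
      · have := closure_pair_card Φ x y hV
        rw [← Nat.card_coe_set_eq] at this
        exact Nat.mul_le_mul_right 2 this
      · rw [QuotientGroup.ker_mk']
        intro f hf
        rcases hΦel f hf with e0 | e0 <;> rw [e0]
        · exact one_mem _
        · have e : z = (y * x)⁻¹ * (x * y) := by rw [hdich x y hxy]; group
          rw [e]; exact mul_mem (inv_mem (mul_mem hyD hxD)) (mul_mem hxD hyD)
    have htop : D = ⊤ := eq_top_iff.mpr fun g _ => by
      obtain ⟨d, hd, hgd⟩ := hdec g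
      have : g * d ∈ D := by
        rcases hΦel _ (hCΦ hgd) with e | e
        · rw [e]; exact one_mem _
        · rw [e, show z = (y * x)⁻¹ * (x * y) by rw [hdich x y hxy]; group]
          exact mul_mem (inv_mem (mul_mem hyD hxD)) (mul_mem hxD hyD)
      simpa using mul_mem this (inv_mem hd)
    rw [htop, card_top, hcard] at hD8
    omega
  have haΦ : a ∉ Φ := fun h => hab (mem_center_iff.mp (hcen.symm ▸ h : a ∈ center P) b).symm
  have hbΦ : b ∉ Φ := fun h => hab (mem_center_iff.mp (hcen.symm ▸ h : b ∈ center P) a)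
  set A := closure ({a, b} : Set P) with hA
  have haA : a ∈ A := subset_closure (by simp)
  have hbA : b ∈ A := subset_closure (by simp)
  have hAC : A ≤ C := (closure_le _).mpr (by rintro g (rfl | rfl) <;> assumption)
  have eight : ∀ (p q r w : P), p * q ≠ q * p → r ∈ closure ({p, q} : Set P) →
      w ∈ closure ({p, q} : Set P) → r * r = z → w * r ≠ r * w →
      Nat.card (closure ({p, q} : Set P)) = 8 ∧ orderOf r = 4 ∧ w ∉ zpowers r := by
    intro p q r w hpq hr hw hrr hwr
    have hΦle : Φ ≤ closure ({p, q} : Set P) := fun f hf => by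
      rcases hΦel f hf with rfl | rfl
      · exact one_mem _
      · rw [← hrr]; exact mul_mem hr hr
    have ho : orderOf r = 2 ^ (1 + 1) := orderOf_eq_prime_pow
      (by rw [pow_one, pow_two, hrr]; exact hz1)
      (by rw [show 2 ^ (1 + 1) = 2 * 2 from rfl, pow_mul, pow_two r, hrr, pow_two, hzz])
    have hnw : w ∉ zpowers r := fun h => by
      obtain ⟨i, rfl⟩ := mem_zpowers_iff.mp h
      exact hwr (Commute.zpow_self r i)
    refine ⟨?_, ho, hnw⟩
    have hle : Nat.card (closure ({p, q} : Set P)) ≤ 8 := by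
      rw [card_eq_map_mul (QuotientGroup.mk' Φ) _ (by rw [QuotientGroup.ker_mk']; exact hΦle),
        QuotientGroup.ker_mk', hΦ]
      have := closure_pair_card Φ p q hV
      rw [← Nat.card_coe_set_eq] at this
      exact Nat.mul_le_mul_right 2 this
    have hsub : zpowers r ≤ closure ({p, q} : Set P) := zpowers_le.mpr hr
    obtain ⟨j, hj⟩ := card_dvd_of_le hsub
    have hj1 : j ≠ 1 := fun h => hnw ((eq_of_le_of_card_ge hsub (by rw [hj, h, mul_one])).symm ▸ hw)
    have hpos : 0 < Nat.card (closure ({p, q} : Set P)) := Nat.card_pos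
    rw [Nat.card_zpowers, ho] at hj
    omega
  refine ⟨A, D, ?_, ?_, fun u hu d hd => hCD u (hAC hu) d hd, ?_, ?_⟩
  · obtain ⟨h8, ho, hnw⟩ := eight a b a b hab haA hbA (hsix a ha haΦ) (Ne.symm hab)
    refine PGroups.nonempty_mulEquiv_quaternion (c := (⟨a, haA⟩ : A)) (y := ⟨b, hbA⟩) (n := 2) ?_ ?_ ?_ ?_ h8
    · rw [← Subgroup.orderOf_coe]; exact ho
    · intro h
      obtain ⟨i, hi⟩ := mem_zpowers_iff.mp h
      exact hnw (mem_zpowers_iff.mpr ⟨i, congrArg Subtype.val hi⟩)
    · exact Subtype.ext (by simp [pow_two, hsix a ha haΦ, hsix b hb hbΦ])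
    · refine Subtype.ext ?_
      show b * a * b⁻¹ = a⁻¹
      have hainv : a⁻¹ = a * z := inv_eq_of_mul_eq_one_right (by rw [← mul_assoc, hsix a ha haΦ, hzz])
      rw [hainv, hdich b a (Ne.symm hab), mul_assoc a b z, hzc b]
      group
  · have hr : x * y * (x * y) = z := by
      calc x * y * (x * y) = x * (y * x) * y := by group
        _ = x * (x * y * z) * y := by rw [hdich y x (Ne.symm hxy)]
        _ = (x * x) * y * (z * y) := by group
        _ = y * (y * z) := by rw [hxx, one_mul, hzc y]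
        _ = z := by rw [← mul_assoc, hyy, one_mul]
    have hwr : x * (x * y) ≠ (x * y) * x := fun e => hxy (mul_left_cancel (a := x) (by
      simpa [mul_assoc] using e))
    obtain ⟨h8, ho, hnw⟩ := eight x y (x * y) x hxy (mul_mem hxD hyD) hxD hr hwr
    refine PGroups.nonempty_mulEquiv_dihedral (c := (⟨x * y, mul_mem hxD hyD⟩ : D)) (y := ⟨x, hxD⟩) (n := 4)
      ?_ ?_ ?_ ?_ h8
    · rw [← Subgroup.orderOf_coe]; exact ho
    · intro h
      obtain ⟨i, hi⟩ := mem_zpowers_iff.mp h
      exact hnw (mem_zpowers_iff.mpr ⟨i, congrArg Subtype.val hi⟩)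
    · exact Subtype.ext (by simp [pow_two, hxx])
    · refine Subtype.ext ?_
      show x * (x * y) * x⁻¹ = (x * y)⁻¹
      rw [mul_inv_rev, inv_eq_of_mul_eq_one_right hxx, inv_eq_of_mul_eq_one_right hyy, ← mul_assoc x x y,
        hxx, one_mul]
  · -- the join
    have hint : A ⊓ D ≤ Φ := by
      intro g ⟨hgA, hgD⟩
      refine hcentral g (hAC hgA) fun c hc => ?_
      exact (hCD c hc g hgD).symm
    obtain ⟨hA8, -, -⟩ := eight a b a b hab haA hbA (hsix a ha haΦ) (Ne.symm hab)
    have hD8 : Nat.card D = 8 := by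
      refine (eight x y (x * y) x hxy (mul_mem hxD hyD) hxD ?_ ?_).1
      · calc x * y * (x * y) = x * (y * x) * y := by group
          _ = x * (x * y * z) * y := by rw [hdich y x (Ne.symm hxy)]
          _ = (x * x) * y * (z * y) := by group
          _ = y * (y * z) := by rw [hxx, one_mul, hzc y]
          _ = z := by rw [← mul_assoc, hyy, one_mul]
      · exact fun e => hxy (mul_left_cancel (a := x) (by simpa [mul_assoc] using e))
    let m : A × D →* P :=
      MonoidHom.noncommCoprod A.subtype D.subtype fun u d => hCD u (hAC u.2) d d.2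
    have hk : Nat.card m.ker ≤ 2 := by
      rw [← hΦ]
      refine Nat.card_le_card_of_injective (fun p => (⟨(p.1.1 : P), ?_⟩ : Φ)) ?_
      · refine hint ⟨p.1.1.2, ?_⟩
        have h := MonoidHom.mem_ker.mp p.2
        have : (p.1.1 : P) = (p.1.2 : P)⁻¹ := eq_inv_of_mul_eq_one_left h
        rw [this]; exact D.inv_mem p.1.2.2
      · intro p q h
        have h1 : (p.1.1 : P) = q.1.1 := congrArg (fun f : Φ => (f : P)) h
        have hp : (p.1.1 : P) * p.1.2 = 1 := MonoidHom.mem_ker.mp p.2
        have hq : (q.1.1 : P) * q.1.2 = 1 := MonoidHom.mem_ker.mp q.2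
        rw [h1] at hp
        exact Subtype.ext (Prod.ext (Subtype.ext h1) (Subtype.ext (mul_left_cancel (hp.trans hq.symm))))
    have hm := Subgroup.index_mul_card m.ker
    rw [Subgroup.index_ker, Nat.card_prod, hA8, hD8] at hm
    have hrle : m.range ≤ A ⊔ D := by
      rintro _ ⟨p, rfl⟩; exact mul_mem_sup p.1.2 p.2.2
    refine eq_top_of_le_card _ ?_
    rw [hcard]
    have := card_le_of_le hrle
    nlinarith
  · refine le_antisymm (fun g ⟨hgA, hgD⟩ => hcen ▸ hcentral g (hAC hgA) fun c hc => (hCD c hc g hgD).symm) ?_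
    rw [hcen]
    intro f hf
    have e1 : z = (y * x)⁻¹ * (x * y) := by rw [hdich x y hxy]; group
    rcases hΦel f hf with e0 | e0 <;> rw [e0]
    · exact one_mem _
    · exact ⟨by rw [← hsix a ha haΦ]; exact A.mul_mem haA haA,
        by rw [e1]; exact D.mul_mem (D.inv_mem (mul_mem hyD hxD)) (mul_mem hxD hyD)⟩

end Cfsg.Agent.Signalizer.AltFive
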