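import Cfsg.Agent.Signalizer.AltFiveRadical.Quad
import Cfsg.Agent.Signalizer.AltFiveRadical.Section

/-!
The squaring map of a 2-group of class two as a quadratic map on its Frattini factor.
-/

set_option autoImplicit false

namespace Cfsg.Agent.Signalizer.AltFive

open Subgroup

variable {Y : Type*} [Group Y] [Finite Y]

/-- `N` over its central elementary subgroup `F`, with an element `c` of order five modulo `N`. -/
structure Layer (N F : Subgroup Y) (c : Y) : Prop where
  normN : N.Normal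
  normF : F.Normal
  le : F ≤ N
  cen : ∀ f ∈ F, ∀ n ∈ N, f * n = n * f
  elem : ∀ f ∈ F, f * f = 1
  sq : ∀ n ∈ N, n * n ∈ F
  gen : closure {f | ∃ n ∈ N, n * n = f} = F
  card : Nat.card (N.map (QuotientGroup.mk' F (nN := normF))) = 16
  five : c ^ 5 ∈ N
  fixF : ∀ f ∈ F, c * f = f * c
  fixV : ∀ n ∈ N, c * n * c⁻¹ * n⁻¹ ∈ F → n ∈ F

variable {N F : Subgroup Y} {c : Y}

theorem Layer.facts (L : Layer N F c) :
    (∀ d : Y, d ^ 3 ∈ N → (∀ f ∈ F, d * f = f * d) → (∃ n ∈ N, d * n * d⁻¹ * n⁻¹ ∉ F) →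
      Nat.card F ≤ 2) ∧
    (Nat.card F = 2 →
      (∀ x ∈ N, (∀ y ∈ N, x * y = y * x) → x ∈ F) ∧
      (∀ x ∈ N, ∃ a ∈ N, ∃ b ∈ N, x * a = a * x ∧ x * b = b * x ∧ a * b ≠ b * a) ∧
      ∃ Z : Set (Y ⧸ F), Z.ncard = 5 ∧
        ∀ v, v ∈ Z ↔ ∃ x ∈ N, (x : Y ⧸ F) = v ∧ x ∉ F ∧ x * x = 1) := by
  classical
  have := L.normN
  have := L.normF
  let π := QuotientGroup.mk' F
  set M := N.map π with hMdef
  have hMn : M.Normal := L.normN.map π (QuotientGroup.mk'_surjective F)
  have hMe : ∀ m ∈ M, m * m = 1 := by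
    rintro _ ⟨n, hn, rfl⟩
    rw [← map_mul]; exact (QuotientGroup.eq_one_iff _).mpr (L.sq n hn)
  have hMcomm : ∀ a ∈ M, ∀ b ∈ M, a * b = b * a := by
    intro a ha b hb
    calc a * b = (a * b)⁻¹ := eq_inv_of_mul_eq_one_left (hMe _ (mul_mem ha hb))
      _ = b⁻¹ * a⁻¹ := mul_inv_rev a b
      _ = b * a := by rw [inv_eq_of_mul_eq_one_right (hMe a ha), inv_eq_of_mul_eq_one_right (hMe b hb)]
  letI : CommGroup ↥M :=
    { (inferInstance : Group ↥M) with mul_comm := fun a b => Subtype.ext (hMcomm a a.2 b b.2) }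
  letI : CommGroup ↥F :=
    { (inferInstance : Group ↥F) with mul_comm := fun a b => Subtype.ext (L.cen a a.2 b (L.le b.2)) }
  let rep : M → Y := fun v => Classical.choose v.2
  have hrep : ∀ v : M, rep v ∈ N ∧ π (rep v) = v := fun v => Classical.choose_spec v.2
  let q : M → F := fun v => ⟨rep v * rep v, L.sq _ (hrep v).1⟩
  have key : ∀ n ∈ N, ∀ v : M, π n = v → (q v : Y) = n * n := by
    intro n hn v hv
    have hf : n⁻¹ * rep v ∈ F := QuotientGroup.eq.mp (hv.trans (hrep v).2.symm)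
    show rep v * rep v = n * n
    set f := n⁻¹ * rep v with hfdef
    rw [show rep v = n * f by rw [hfdef]; group]
    calc n * f * (n * f) = n * (f * n) * f := by group
      _ = n * n * (f * f) := by rw [L.cen f hf n hn]; group
      _ = n * n := by rw [L.elem f hf, mul_one]
  let mk : ∀ n, n ∈ N → M := fun n hn => ⟨π n, n, hn, rfl⟩
  have hγF : ∀ a ∈ N, ∀ b ∈ N, (b * a)⁻¹ * (a * b) ∈ F := fun a ha b hb => QuotientGroup.eq.mp (by
    show π (b * a) = π (a * b)
    rw [map_mul, map_mul, hMcomm _ ⟨a, ha, rfl⟩ _ ⟨b, hb, rfl⟩])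
  have hpol : ∀ a (ha : a ∈ N) b (hb : b ∈ N),
      ((polar q (mk a ha) (mk b hb) : F) : Y) = (b * a)⁻¹ * (a * b) := by
    intro a ha b hb
    have h1 := key (a * b) (mul_mem ha hb) (mk a ha * mk b hb) (map_mul π a b)
    have h2 := key a ha (mk a ha) rfl
    have h3 := key b hb (mk b hb) rfl
    show (q (mk a ha * mk b hb) : Y) * (q (mk a ha) : Y) * (q (mk b hb) : Y) = _
    rw [h1, h2, h3]
    have hγ := hγF a ha b hb
    set γ := (b * a)⁻¹ * (a * b) with hγdef
    have hab : a * b = b * a * γ := by rw [hγdef]; group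
    have hA := L.sq a ha
    have hB := L.sq b hb
    calc a * b * (a * b) * (a * a) * (b * b)
        = a * b * (b * a * γ) * (a * a) * (b * b) := by rw [← hab]
      _ = a * (b * b) * a * γ * (a * a) * (b * b) := by group
      _ = (b * b) * a * a * γ * (a * a) * (b * b) := by rw [← L.cen _ hB a ha]
      _ = (b * b) * (a * a) * (γ * (a * a)) * (b * b) := by group
      _ = (b * b) * (a * a) * ((a * a) * γ) * (b * b) := by rw [L.cen γ hγ _ (L.le hA)]
      _ = (b * b) * ((a * a) * (a * a)) * (γ * (b * b)) := by group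
      _ = (b * b) * γ * (b * b) := by rw [L.elem _ hA]; group
      _ = γ * ((b * b) * (b * b)) := by rw [← L.cen γ hγ _ (L.le hB), mul_assoc]
      _ = γ := by rw [L.elem _ hB, mul_one]
  have hmk : ∀ v : M, ∃ a, ∃ ha : a ∈ N, mk a ha = v := fun v =>
    ⟨rep v, (hrep v).1, Subtype.ext (hrep v).2⟩
  let σ : M ≃* M := MulAut.conjNormal (π c)
  have hσv : ∀ v : M, (σ v : Y ⧸ F) = π c * v * (π c)⁻¹ := fun v => MulAut.conjNormal_apply _ _
  have hsqconj : ∀ d : Y, (∀ f ∈ F, d * f = f * d) →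
      ∀ v, q ((MulAut.conjNormal (π d) : M ≃* M) v) = q v := by
    intro d hd v
    obtain ⟨a, ha, rfl⟩ := hmk v
    refine Subtype.ext ?_
    rw [key (d * a * d⁻¹) (L.normN.conj_mem a ha d) _
        (by simp only [MulAut.conjNormal_apply, mk, map_mul, map_inv]),
      key a ha _ rfl]
    rw [show d * a * d⁻¹ * (d * a * d⁻¹) = d * (a * a) * d⁻¹ by group, hd _ (L.sq a ha),
      mul_inv_cancel_right]
  have hiter : ∀ (g : Y ⧸ F) (k : ℕ) (v : M),
      (((⇑(MulAut.conjNormal g : M ≃* M))^[k] v : M) : Y ⧸ F) = g ^ k * v * (g ^ k)⁻¹ := by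
    intro g k
    induction k with
    | zero => intro v; simp
    | succ k ih =>
      intro v
      rw [Function.iterate_succ_apply', MulAut.conjNormal_apply, ih, pow_succ']
      group
  have hper : ∀ (d : Y) (k : ℕ), d ^ k ∈ N → (⇑(MulAut.conjNormal (π d) : M ≃* M))^[k] = id := by
    intro d k hdk
    funext v
    refine Subtype.ext ?_
    rw [hiter, ← map_pow, hMcomm _ ⟨_, hdk, rfl⟩ v v.2, mul_inv_cancel_right]
    rfl
  have H : IsQuad q σ :=
    { sqV := fun v => Subtype.ext (hMe v v.2)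
      sqW := fun w => Subtype.ext (L.elem w w.2)
      card := L.card
      add := fun u v w => by
        obtain ⟨a, ha, rfl⟩ := hmk u
        obtain ⟨b, hb, rfl⟩ := hmk v
        obtain ⟨e, he, rfl⟩ := hmk w
        refine Subtype.ext ?_
        rw [show mk a ha * mk b hb = mk (a * b) (mul_mem ha hb) from Subtype.ext (map_mul π a b).symm,
          hpol (a * b) (mul_mem ha hb) e he, Subgroup.coe_mul, hpol a ha e he, hpol b hb e he]
        set γ₁ := (e * a)⁻¹ * (a * e) with hg1
        set γ₂ := (e * b)⁻¹ * (b * e) with hg2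
        have h1 : γ₁ ∈ F := hγF a ha e he
        have key2 : a * b * e = e * (a * b) * (γ₁ * γ₂) := by
          calc a * b * e = a * (e * b * γ₂) := by rw [hg2]; group
            _ = (e * a * γ₁) * b * γ₂ := by rw [hg1]; group
            _ = e * a * (b * γ₁) * γ₂ := by rw [← L.cen γ₁ h1 b hb]; group
            _ = _ := by group
        rw [key2]; group
      period := hper c 5 L.five
      fix := fun v hv => by
        obtain ⟨a, ha, rfl⟩ := hmk v
        have h : π c * π a * (π c)⁻¹ = π a := (hσv _).symm.trans (congrArg Subtype.val hv)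
        refine Subtype.ext ((QuotientGroup.eq_one_iff _).mpr (L.fixV a ha ((QuotientGroup.eq_one_iff _).mp ?_)))
        show π (c * a * c⁻¹ * a⁻¹) = 1
        simp only [map_mul, map_inv, h, mul_inv_cancel]
      inv := hsqconj c L.fixF }
  have hgen : closure (Set.range q) = ⊤ := by
    refine map_injective F.subtype_injective ?_
    rw [MonoidHom.map_closure, ← MonoidHom.range_eq_map, F.range_subtype]
    conv_rhs => rw [← L.gen]
    congr 1
    ext f
    constructor
    · rintro ⟨_, ⟨v, rfl⟩, rfl⟩; exact ⟨rep v, (hrep v).1, rfl⟩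
    · rintro ⟨n, hn, rfl⟩; exact ⟨q (mk n hn), ⟨_, rfl⟩, key n hn _ rfl⟩
  refine ⟨fun d hd3 hdF ⟨n, hn, hdn⟩ => ?_, fun hF2 => ?_⟩
  · refine H.target_le_two hgen (MulAut.conjNormal (π d)) (hper d 3 hd3) (hsqconj d hdF) ⟨mk n hn, ?_⟩
    intro e
    have e' : π d * π n * (π d)⁻¹ = π n := (MulAut.conjNormal_apply _ _).symm.trans (congrArg Subtype.val e)
    refine hdn ((QuotientGroup.eq_one_iff _).mp ?_)
    show π (d * n * d⁻¹ * n⁻¹) = 1
    simp only [map_mul, map_inv, e', mul_inv_cancel]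
  · have hq : ∃ v, q v ≠ 1 := by
      by_contra h
      have hr : closure (Set.range q) = ⊥ := by
        rw [closure_eq_bot_iff]
        rintro _ ⟨v, rfl⟩
        exact Set.mem_singleton_iff.mpr (not_not.mp (not_exists.mp h v))
      rw [hgen] at hr
      have := Subgroup.card_top (G := ↥F)
      rw [hr, Subgroup.card_bot, hF2] at this
      omega
    have hcomm : ∀ a (ha : a ∈ N) b (hb : b ∈ N),
        polar q (mk a ha) (mk b hb) = 1 ↔ a * b = b * a := by
      intro a ha b hb
      rw [← OneMemClass.coe_eq_one, hpol a ha b hb, inv_mul_eq_one, eq_comm]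
    refine ⟨fun x hx h => ?_, fun x hx => ?_, ⟨(fun v : M => (v : Y ⧸ F)) '' {v | v ≠ 1 ∧ q v = 1}, ?_, ?_⟩⟩
    · have := H.nondeg hF2 hq (mk x hx) fun v => by
        obtain ⟨a, ha, rfl⟩ := hmk v
        exact (hcomm x hx a ha).mpr (h a ha)
      exact (QuotientGroup.eq_one_iff _).mp (congrArg Subtype.val this)
    · obtain ⟨u, v, h1, h2, h3⟩ := H.pair hF2 hq (mk x hx)
      obtain ⟨a, ha, rfl⟩ := hmk u
      obtain ⟨b, hb, rfl⟩ := hmk v
      exact ⟨a, ha, b, hb, (hcomm x hx a ha).mp h1, (hcomm x hx b hb).mp h2,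
        fun e => h3 ((hcomm a ha b hb).mpr e)⟩
    · rw [Set.ncard_image_of_injective _ Subtype.val_injective]
      exact H.five_zeros hF2 hq
    · intro v
      constructor
      · rintro ⟨w, ⟨hw1, hw2⟩, rfl⟩
        obtain ⟨a, ha, rfl⟩ := hmk w
        refine ⟨a, ha, rfl, fun h => hw1 (Subtype.ext ((QuotientGroup.eq_one_iff _).mpr h)), ?_⟩
        rw [← key a ha (mk a ha) rfl, hw2]; rfl
      · rintro ⟨a, ha, rfl, haF, haa⟩
        refine ⟨mk a ha, ⟨fun h => haF ((QuotientGroup.eq_one_iff _).mp (congrArg Subtype.val h)), ?_⟩, rfl⟩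
        exact Subtype.ext ((key a ha _ rfl).trans haa)

end Cfsg.Agent.Signalizer.AltFive
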