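import Mathlib
import Cfsg.Agent.Signalizer.AltFiveRadical.Count

/-!
Quadratic maps on an elementary abelian group `V` of order 16, invariant under a fixed-point-free
automorphism of order five: into a group of order two there are exactly five nontrivial zeros and the
polar form is nondegenerate; into a larger group they exclude a further symmetry of order three.
-/

set_option autoImplicit false

namespace Cfsg.Agent.Signalizer.AltFive

variable {V W : Type*} [CommGroup V] [CommGroup W] [Finite V] [Finite W]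

/-- The polar form. -/
def polar (q : V → W) (x y : V) : W := q (x * y) * q x * q y

/-- The hypotheses: an invariant quadratic map. -/
structure IsQuad (q : V → W) (σ : V ≃* V) : Prop where
  sqV : ∀ v : V, v * v = 1
  sqW : ∀ w : W, w * w = 1
  card : Nat.card V = 16
  add : ∀ x y z, polar q (x * y) z = polar q x z * polar q y z
  period : (⇑σ)^[5] = id
  fix : ∀ v, σ v = v → v = 1
  inv : ∀ v, q (σ v) = q v

variable {q : V → W} {σ : V ≃* V}

omit [Finite V] [Finite W] in
theorem IsQuad.one (H : IsQuad q σ) : q 1 = 1 := by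
  have h := H.add 1 1 1
  simp only [polar, one_mul, H.sqW] at h
  exact h

omit [Finite V] [Finite W] in
theorem IsQuad.symm (x y : V) : polar q x y = polar q y x := by
  unfold polar; rw [mul_comm x y]; ac_rfl

theorem IsQuad.add' (H : IsQuad q σ) (x y z : V) :
    polar q x (y * z) = polar q x y * polar q x z := by
  rw [IsQuad.symm, H.add, IsQuad.symm y, IsQuad.symm z]

omit [Finite V] [Finite W] in
theorem IsQuad.q_mul (H : IsQuad q σ) (x y : V) : q (x * y) = q x * q y * polar q x y := by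
  have : q x * q y * polar q x y = q (x * y) * ((q x * q x) * (q y * q y)) := by
    unfold polar; ac_rfl
  rw [this, H.sqW, H.sqW, mul_one, mul_one]

theorem IsQuad.polar_self (H : IsQuad q σ) (x : V) : polar q x x = 1 := by
  unfold polar; rw [H.sqV, H.one, one_mul, H.sqW]

/-- The polar form in the first variable, as a homomorphism. -/
def IsQuad.hom (H : IsQuad q σ) (x : V) : V →* W := MonoidHom.mk' (polar q x) (H.add' x)

theorem IsQuad.hom_apply (H : IsQuad q σ) (x y : V) : H.hom x y = polar q x y := rfl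

omit [Finite W] in
theorem two_eq {w w' : W} (hW : Nat.card W = 2) (hw : w ≠ 1) (hw' : w' ≠ 1) : w = w' := by
  obtain ⟨u, hu, huu⟩ := (Nat.card_eq_two_iff' (1 : W)).mp hW
  exact (huu w hw).trans (huu w' hw').symm

omit [Finite V] in
theorem card_ker_hom (hW : Nat.card W = 2) (hV : Nat.card V = 16) (φ : V →* W) (v : V) (hv : φ v ≠ 1) :
    (φ.ker : Set V).ncard = 8 := by
  have hr : φ.range = ⊤ := by
    rw [eq_top_iff]
    intro w _
    by_cases hw : w = 1
    · exact hw ▸ one_mem _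
    · exact ⟨v, two_eq hW hv hw⟩
  have h := Subgroup.index_mul_card φ.ker
  rw [Subgroup.index_ker, hr, Subgroup.card_top, hW, hV] at h
  rw [← Nat.card_coe_set_eq]
  show Nat.card φ.ker = 8
  omega

/-- Exactly five nontrivial zeros. -/
theorem IsQuad.five_zeros (H : IsQuad q σ) (hW : Nat.card W = 2) (hq : ∃ v, q v ≠ 1) :
    {v | v ≠ 1 ∧ q v = 1}.ncard = 5 := by
  classical
  set Z := {v | v ≠ 1 ∧ q v = 1} with hZ
  set O := {v | q v ≠ 1} with hO
  have hO1 : (1 : V) ∉ O := fun h => h H.one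
  have hsum : Z.ncard + O.ncard = 15 := by
    have hd : Disjoint Z O := Set.disjoint_left.mpr fun v h h' => h' h.2
    rw [← Set.ncard_union_eq hd, show Z ∪ O = {(1 : V)}ᶜ from ?_, Set.ncard_compl,
      Set.ncard_singleton, H.card]
    ext v
    simp only [hZ, hO, Set.mem_union, Set.mem_ofPred_eq, Set.mem_compl_iff, Set.mem_singleton_iff]
    constructor
    · rintro (h | h)
      · exact h.1
      · exact fun e => h (e ▸ H.one)
    · intro h
      by_cases h' : q v = 1
      · exact Or.inl ⟨h, h'⟩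
      · exact Or.inr h'
  have hO5 : 5 ∣ O.ncard := five_dvd σ H.period H.fix O
    (fun v hv => by show q (σ v) ≠ 1; rw [H.inv]; exact hv) hO1
  have hZ5 : 5 ∣ Z.ncard := five_dvd σ H.period H.fix Z
    (fun v hv => ⟨fun h => hv.1 (σ.injective (h.trans σ.map_one.symm)), (H.inv v).trans hv.2⟩)
    (fun h => h.1 rfl)
  obtain ⟨v₀, hv₀⟩ := hq
  have hOpos : 0 < O.ncard := (Set.ncard_pos O.toFinite).mpr ⟨v₀, hv₀⟩
  have hZne : Z.Nonempty := by
    by_contra hne
    have hall : ∀ v : V, v ≠ 1 → q v ≠ 1 := fun v hv h => hne ⟨v, hv, h⟩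
    have hw : ∀ x y : V, x ≠ 1 → y ≠ 1 → x * y ≠ 1 → polar q x y = q v₀ := by
      intro x y hx hy hxy
      unfold polar
      rw [two_eq hW (hall _ hxy) hv₀, two_eq hW (hall _ hx) hv₀, two_eq hW (hall _ hy) hv₀,
        H.sqW, one_mul]
    have hne' : ∀ x y : V, x ≠ y → x * y ≠ 1 := by
      intro x y hxy h
      exact hxy (mul_right_cancel (b := y) (by rw [h, H.sqV]))
    have hv1 : v₀ ≠ 1 := fun h => hv₀ (h ▸ H.one)
    obtain ⟨w, -, hwn⟩ := Set.exists_mem_notMem_of_ncard_lt_ncard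
      (s := ({1, v₀} : Set V)) (t := Set.univ) (by
        rw [Set.ncard_univ, H.card]
        exact lt_of_le_of_lt ((Set.ncard_insert_le _ _).trans
          (Nat.succ_le_succ (Set.ncard_singleton _).le)) (by norm_num))
    simp only [Set.mem_insert_iff, Set.mem_singleton_iff, not_or] at hwn
    obtain ⟨u, -, hun⟩ := Set.exists_mem_notMem_of_ncard_lt_ncard
      (s := ({1, v₀, w, v₀ * w} : Set V)) (t := Set.univ) (by
        rw [Set.ncard_univ, H.card]
        exact lt_of_le_of_lt ((Set.ncard_insert_le _ _).trans (Nat.succ_le_succ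
          ((Set.ncard_insert_le _ _).trans (Nat.succ_le_succ ((Set.ncard_insert_le _ _).trans
            (Nat.succ_le_succ (Set.ncard_singleton _).le)))))) (by norm_num))
    simp only [Set.mem_insert_iff, Set.mem_singleton_iff, not_or] at hun
    have h1 := hw v₀ u hv1 hun.1 (hne' _ _ (Ne.symm hun.2.1))
    have h2 := hw w u hwn.1 hun.1 (hne' _ _ (Ne.symm hun.2.2.1))
    have h3 := hw (v₀ * w) u (hne' _ _ (Ne.symm hwn.2)) hun.1 (hne' _ _ (Ne.symm hun.2.2.2))
    rw [H.add, h1, h2, H.sqW] at h3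
    exact hv₀ h3.symm
  obtain ⟨a, ha1, haq⟩ := hZne
  have htrans : ∀ v, q (a * v) = q v * polar q a v := fun v => by rw [H.q_mul, haq, one_mul]
  have hOeven : 2 ∣ O.ncard := by
    set K := ((H.hom a).ker : Set V) with hK
    have hmemK : ∀ v, v ∈ K ↔ polar q a v = 1 := fun v => MonoidHom.mem_ker
    by_cases hb : ∀ v, polar q a v = 1
    · exact even_of_translation (H.sqV a) ha1 O (fun v hv => by
        show q (a * v) ≠ 1
        rw [htrans, hb, mul_one]; exact hv)
    obtain ⟨v₁, hv₁⟩ := not_forall.mp hb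
    have hK8 : K.ncard = 8 := card_ker_hom hW H.card (H.hom a) v₁ hv₁
    have hpol : ∀ v, polar q a (a * v) = polar q a v := fun v => by
      rw [H.add', H.polar_self, one_mul]
    have hin : 2 ∣ (O ∩ K).ncard := even_of_translation (H.sqV a) ha1 _ (by
      rintro v ⟨hv, hvK⟩
      rw [hmemK] at hvK
      refine ⟨?_, (hmemK _).mpr ((hpol v).trans hvK)⟩
      show q (a * v) ≠ 1
      rw [htrans, hvK, mul_one]; exact hv)
    have hout : (O \ K).ncard = 4 := by
      have himg : (fun v => a * v) '' (O \ K) = Kᶜ \ O := by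
        ext u
        constructor
        · rintro ⟨v, ⟨hv, hvK⟩, rfl⟩
          rw [hmemK] at hvK
          refine ⟨fun h => hvK ((hpol v).symm.trans ((hmemK _).mp h)), fun h => ?_⟩
          change q (a * v) ≠ 1 at h
          rw [htrans, two_eq hW hv hvK, H.sqW] at h
          exact h rfl
        · rintro ⟨huK, huO⟩
          have huK' : polar q a u ≠ 1 := fun h => huK ((hmemK u).mpr h)
          refine ⟨a * u, ⟨?_, ?_⟩, by show a * (a * u) = u; rw [← mul_assoc, H.sqV, one_mul]⟩
          · show q (a * u) ≠ 1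
            rw [htrans, show q u = 1 from not_not.mp huO, one_mul]
            exact huK'
          · rw [hmemK, hpol]; exact huK'
      have hinj := Set.ncard_image_of_injective (O \ K) (mul_right_injective a)
      rw [himg] at hinj
      have hsplit := Set.ncard_inter_add_ncard_sdiff_eq_ncard (Kᶜ) O
      rw [show Kᶜ ∩ O = O \ K from Set.ext fun v => ⟨fun h => ⟨h.2, h.1⟩, fun h => ⟨h.2, h.1⟩⟩,
        Set.ncard_compl, hK8, H.card, hinj] at hsplit
      omega
    have hsp := Set.ncard_inter_add_ncard_sdiff_eq_ncard O K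
    omega
  have : 0 < Z.ncard := (Set.ncard_pos Z.toFinite).mpr ⟨a, ha1, haq⟩
  omega

/-- The polar form is nondegenerate. -/
theorem IsQuad.nondeg (H : IsQuad q σ) (hW : Nat.card W = 2) (hq : ∃ v, q v ≠ 1) (r : V)
    (hr : ∀ v, polar q r v = 1) : r = 1 := by
  by_contra hr1
  let R : Subgroup V :=
    { carrier := {x | ∀ v, polar q x v = 1}
      mul_mem' := fun {x y} hx hy v => by rw [H.add, hx, hy, one_mul]
      one_mem' := fun v => by unfold polar; rw [one_mul, H.one, mul_one, H.sqW]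
      inv_mem' := fun {x} hx v => by rw [inv_eq_of_mul_eq_one_right (H.sqV x)]; exact hx v }
  have hRσ : ∀ x ∈ R, σ x ∈ R := by
    intro x hx v
    obtain ⟨u, rfl⟩ := σ.surjective v
    show q (σ x * σ u) * q (σ x) * q (σ u) = 1
    rw [← map_mul, H.inv, H.inv, H.inv]
    exact hx u
  have h5 := five_dvd σ H.period H.fix ((R : Set V) \ {1}) (fun x hx => ⟨hRσ x hx.1,
    fun h => hx.2 (σ.injective ((Set.mem_singleton_iff.mp h).trans σ.map_one.symm))⟩)
    (fun h => h.2 rfl)
  rw [Set.ncard_sdiff_singleton_of_mem R.one_mem, ← Nat.card_coe_set_eq] at h5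
  have hdvd := Subgroup.card_subgroup_dvd_card R
  rw [H.card] at hdvd
  have h1 : 1 < Nat.card R :=
    (Subgroup.one_lt_card_iff_ne_bot R).mpr fun h => hr1 ((Subgroup.mem_bot).mp (h ▸ (hr : r ∈ R)))
  change 5 ∣ Nat.card R - 1 at h5
  have hcases : Nat.card R = 16 := by
    have hle := Nat.le_of_dvd (by norm_num) hdvd
    generalize Nat.card R = n at *
    interval_cases n <;> omega
  have htop : R = ⊤ := Subgroup.eq_top_of_card_eq R (hcases.trans H.card.symm)
  let φ : V →* W := MonoidHom.mk' q fun x y => by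
    have := htop.symm.le (Subgroup.mem_top x) y
    rw [H.q_mul, this, mul_one]
  obtain ⟨v, hv⟩ := hq
  have h8 := card_ker_hom hW H.card φ v hv
  have hset : (φ.ker : Set V) = insert 1 {v | v ≠ 1 ∧ q v = 1} := by
    ext x
    simp only [SetLike.mem_coe, MonoidHom.mem_ker, Set.mem_insert_iff, Set.mem_ofPred_eq]
    constructor
    · intro hx
      by_cases hx1 : x = 1
      · exact Or.inl hx1
      · exact Or.inr ⟨hx1, hx⟩
    · rintro (rfl | h)
      · exact H.one
      · exact h.2
  rw [hset, Set.ncard_insert_of_notMem (fun h => h.1 rfl), H.five_zeros hW ⟨v, hv⟩] at h8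
  omega

/-- Orthogonal to any vector there is a non-orthogonal pair. -/
theorem IsQuad.pair (H : IsQuad q σ) (hW : Nat.card W = 2) (hq : ∃ v, q v ≠ 1) (x : V) :
    ∃ a b, polar q x a = 1 ∧ polar q x b = 1 ∧ polar q a b ≠ 1 := by
  by_contra hne
  simp only [not_exists, not_and, not_not] at hne
  set C := (H.hom x).ker with hC
  by_cases hy : ∀ y, polar q x y = 1
  · obtain ⟨v, hv⟩ := Set.exists_mem_notMem_of_ncard_lt_ncard
      (s := ({1} : Set V)) (t := Set.univ) (by rw [Set.ncard_univ, H.card, Set.ncard_singleton]; norm_num)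
    exact hv.2 (H.nondeg hW hq v fun u => hne v u (hy v) (hy u))
  obtain ⟨y, hy⟩ := not_forall.mp hy
  have h8 := card_ker_hom hW H.card (H.hom x) y hy
  have hinj : Function.Injective (fun u : C => polar q u y) := by
    intro u u' h
    apply Subtype.ext
    have hm : ((u : V) * u') ∈ C := C.mul_mem u.2 u'.2
    have huu' : (u : V) * u' = 1 := by
      refine H.nondeg hW hq _ fun v => ?_
      by_cases hv : polar q x v = 1
      · exact hne _ _ hm hv
      · have hvy : polar q x (v * y) = 1 := by rw [H.add', two_eq hW hv hy, H.sqW]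
        have h2 : polar q ((u : V) * u') y = 1 := by
          show polar q ((u : V) * u') y = 1
          rw [H.add]; simp only at h; rw [h, H.sqW]
        have := hne _ _ hm hvy
        rwa [H.add', h2, mul_one] at this
    rw [eq_comm, ← mul_left_cancel_iff (a := (u : V)), huu', H.sqV]
  have := Nat.card_le_card_of_injective _ hinj
  rw [hW] at this
  change Nat.card C ≤ 2 at this
  rw [← Nat.card_coe_set_eq] at h8
  change Nat.card C = 8 at h8
  omega

/-- A subgroup avoiding `u` extends to one of index two avoiding `u`. -/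
theorem exists_index_two (hsq : ∀ w : W, w * w = 1) (K₀ : Subgroup W) (u : W) (hu : u ∉ K₀) :
    ∃ K : Subgroup W, K₀ ≤ K ∧ u ∉ K ∧ K.index = 2 := by
  obtain ⟨K, ⟨hK₀, huK⟩, hmax⟩ :=
    (Set.toFinite {K : Subgroup W | K₀ ≤ K ∧ u ∉ K}).exists_maximal ⟨K₀, le_rfl, hu⟩
  refine ⟨K, hK₀, huK, Subgroup.index_eq_two_iff.mpr ⟨u, fun b => ?_⟩⟩
  by_cases hb : b ∈ K
  · exact Or.inr ⟨hb, fun h => huK ((K.mul_mem_cancel_left hb).mp h)⟩
  · refine Or.inl ⟨?_, hb⟩
    by_contra hbu
    have hsup : u ∈ K ⊔ Subgroup.zpowers b := by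
      by_contra h
      exact hb (hmax (y := K ⊔ Subgroup.zpowers b) ⟨hK₀.trans le_sup_left, h⟩ le_sup_left
        (Subgroup.mem_sup_right (Subgroup.mem_zpowers b)))
    rw [Subgroup.mem_sup] at hsup
    obtain ⟨k, hk, z, hz, hkz⟩ := hsup
    obtain ⟨i, rfl⟩ := Subgroup.mem_zpowers_iff.mp hz
    have hb2 : b ^ (2 : ℤ) = 1 := by rw [zpow_two]; exact hsq b
    rcases Int.even_or_odd i with ⟨j, rfl⟩ | ⟨j, rfl⟩
    · rw [← two_mul, zpow_mul, hb2, one_zpow, mul_one] at hkz
      exact huK (hkz ▸ hk)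
    · rw [zpow_add, zpow_mul, hb2, one_zpow, one_mul, zpow_one] at hkz
      refine hbu ?_
      rw [← hkz, mul_comm k b, ← mul_assoc, hsq, one_mul]
      exact hk

/-- With a further symmetry of order three, the target has order at most two. -/
theorem IsQuad.target_le_two (H : IsQuad q σ) (hgen : Subgroup.closure (Set.range q) = ⊤)
    (δ : V ≃* V) (hδ : (⇑δ)^[3] = id) (hδq : ∀ v, q (δ v) = q v) (hδ1 : ∃ v, δ v ≠ v) :
    Nat.card W ≤ 2 := by
  classical
  by_contra hW
  obtain ⟨w, -, hw⟩ := Set.exists_mem_notMem_of_ncard_lt_ncard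
    (s := ({1} : Set W)) (t := Set.univ) (by rw [Set.ncard_univ, Set.ncard_singleton]; omega)
  obtain ⟨u, -, hu⟩ := Set.exists_mem_notMem_of_ncard_lt_ncard
    (s := ({1, w} : Set W)) (t := Set.univ) (by
      rw [Set.ncard_univ]
      exact lt_of_le_of_lt ((Set.ncard_insert_le _ _).trans
        (Nat.succ_le_succ (Set.ncard_singleton _).le)) (not_le.mp hW))
  simp only [Set.mem_singleton_iff] at hw
  simp only [Set.mem_insert_iff, Set.mem_singleton_iff, not_or] at hu
  obtain ⟨K₁, hwK₁, huK₁, hK₁⟩ := exists_index_two H.sqW (Subgroup.zpowers w) u (by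
    intro h
    obtain ⟨i, rfl⟩ := Subgroup.mem_zpowers_iff.mp h
    have hw2 : w ^ (2 : ℤ) = 1 := by rw [zpow_two]; exact H.sqW w
    rcases Int.even_or_odd i with ⟨j, rfl⟩ | ⟨j, rfl⟩
    · exact hu.1 (by rw [← two_mul, zpow_mul, hw2, one_zpow])
    · exact hu.2 (by rw [zpow_add, zpow_mul, hw2, one_zpow, one_mul, zpow_one]))
  obtain ⟨K₂, -, hwK₂, hK₂⟩ := exists_index_two H.sqW ⊥ w (by simpa using hw)
  have five : ∀ K : Subgroup W, K.index = 2 → {v | v ≠ 1 ∧ q v ∈ K}.ncard = 5 := by
    intro K hK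
    have hne : ∃ v, q v ∉ K := by
      by_contra h
      have : K = ⊤ := top_le_iff.mp (hgen ▸ (Subgroup.closure_le K).mpr (by
        rintro _ ⟨v, rfl⟩
        exact not_not.mp (not_exists.mp h v)))
      rw [this, Subgroup.index_top] at hK
      omega
    let π := QuotientGroup.mk' K
    have hp : ∀ x y, polar (fun v => π (q v)) x y = π (polar q x y) := fun x y => by
      simp only [polar, map_mul]
    have H' : IsQuad (fun v => π (q v)) σ :=
      { sqV := H.sqV
        sqW := fun z => by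
          obtain ⟨z, rfl⟩ := QuotientGroup.mk'_surjective K z
          rw [← map_mul, H.sqW, map_one]
        card := H.card
        add := fun x y z => by rw [hp, hp, hp, H.add, map_mul]
        period := H.period
        fix := H.fix
        inv := fun v => congrArg π (H.inv v) }
    have hπ : ∀ v, π (q v) = 1 ↔ q v ∈ K := fun v => QuotientGroup.eq_one_iff _
    have h := H'.five_zeros (by rw [← Subgroup.index_eq_card]; exact hK)
      (hne.imp fun v hv e => hv ((hπ v).mp e))
    simpa [hπ] using h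
  set Z₁ := {v | v ≠ 1 ∧ q v ∈ K₁} with hZ₁
  set Z₂ := {v | v ≠ 1 ∧ q v ∈ K₂} with hZ₂
  set Z₃ := (Z₁ ∪ Z₂ ∪ {1})ᶜ with hZ₃
  have h1 : Z₁.ncard = 5 := five K₁ hK₁
  have h2 : Z₂.ncard = 5 := five K₂ hK₂
  have hne1 : ∀ (τ : V ≃* V), ∀ v, v ≠ 1 → τ v ≠ 1 :=
    fun τ v hv h => hv (τ.injective (h.trans τ.map_one.symm))
  have hinv : ∀ (τ : V ≃* V), (∀ v, q (τ v) = q v) →
      (∀ v ∈ Z₁, τ v ∈ Z₁) ∧ (∀ v ∈ Z₂, τ v ∈ Z₂) ∧ (∀ v ∈ Z₃, τ v ∈ Z₃) := by
    intro τ hτ
    refine ⟨fun v hv => ⟨hne1 τ v hv.1, (hτ v).symm ▸ hv.2⟩,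
      fun v hv => ⟨hne1 τ v hv.1, (hτ v).symm ▸ hv.2⟩, fun v hv => ?_⟩
    simp only [hZ₃, hZ₁, hZ₂, Set.mem_compl_iff, Set.mem_union, Set.mem_ofPred_eq,
      Set.mem_singleton_iff, hτ, not_or, not_and] at hv ⊢
    exact ⟨⟨fun _ => hv.1.1 hv.2, fun _ => hv.1.2 hv.2⟩, hne1 τ v hv.2⟩
  obtain ⟨hs1, hs2, hs3⟩ := hinv σ H.inv
  have hdis : Z₁ ∩ Z₂ = ∅ := by
    have h5 := five_dvd σ H.period H.fix (Z₁ ∩ Z₂) (fun v hv => ⟨hs1 v hv.1, hs2 v hv.2⟩)
      (fun h => h.1.1 rfl)
    by_contra hne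
    have hpos := (Set.ncard_pos (Z₁ ∩ Z₂).toFinite).mpr (Set.nonempty_iff_ne_empty.mpr hne)
    have hle := Set.ncard_le_ncard (Set.inter_subset_left : Z₁ ∩ Z₂ ⊆ Z₁) Z₁.toFinite
    have heq : (Z₁ ∩ Z₂).ncard = 5 := by omega
    have e1 : Z₁ ∩ Z₂ = Z₁ := Set.eq_of_subset_of_ncard_le Set.inter_subset_left (by omega) Z₁.toFinite
    have e2 : Z₁ ∩ Z₂ = Z₂ := Set.eq_of_subset_of_ncard_le Set.inter_subset_right (by omega) Z₂.toFinite
    have hiff : ∀ v, (q v ∈ K₁ ↔ q v ∈ K₂) := by
      intro v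
      by_cases hv : v = 1
      · rw [hv, H.one]; simp
      · have := Set.ext_iff.mp (e1.symm.trans e2) v
        simpa [hZ₁, hZ₂, hv] using this
    have hall : ∀ z : W, (z ∈ K₁ ↔ z ∈ K₂) := fun z => by
      have hz : z ∈ Subgroup.closure (Set.range q) := hgen ▸ Subgroup.mem_top z
      induction hz using Subgroup.closure_induction with
      | mem x hx => obtain ⟨v, rfl⟩ := hx; exact hiff v
      | one => simp
      | mul x y _ _ hx hy =>
        rw [Subgroup.mul_mem_iff_of_index_two hK₁, Subgroup.mul_mem_iff_of_index_two hK₂]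
        exact iff_congr hx hy
      | inv x _ hx => simpa using hx
    exact hwK₂ ((hall w).mp (hwK₁ (Subgroup.mem_zpowers w)))
  have h3 : Z₃.ncard = 5 := by
    have hu : (Z₁ ∪ Z₂).ncard = 10 := by
      rw [Set.ncard_union_eq (Set.disjoint_iff_inter_eq_empty.mpr hdis), h1, h2]
    rw [hZ₃, Set.ncard_compl, Set.union_singleton,
      Set.ncard_insert_of_notMem (by rintro (h | h) <;> exact h.1 rfl), hu, H.card]
  have : Fact (Nat.Prime 3) := ⟨by norm_num⟩
  obtain ⟨hd1, hd2, hd3⟩ := hinv δ hδq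
  have ftwo : ∀ S : Set V, (∀ v ∈ S, δ v ∈ S) → S.ncard = 5 → 2 ≤ {v | v ∈ S ∧ δ v = v}.ncard := by
    intro S hS h5
    have h := mod_set δ hδ S hS
    rw [h5, Nat.ModEq] at h
    omega
  let F : Subgroup V :=
    { carrier := {v | δ v = v}
      mul_mem' := fun {x y} (hx : δ x = x) (hy : δ y = y) => by
        show δ (x * y) = x * y
        rw [map_mul, hx, hy]
      one_mem' := map_one δ
      inv_mem' := fun {x} (hx : δ x = x) => by show δ x⁻¹ = x⁻¹; rw [map_inv, hx] }
  have h7 : 6 ≤ Nat.card F := by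
    set A := {v | v ∈ Z₁ ∧ δ v = v}
    set B := {v | v ∈ Z₂ ∧ δ v = v}
    set C := {v | v ∈ Z₃ ∧ δ v = v}
    have hsub : A ∪ B ∪ C ⊆ (F : Set V) := by rintro v ((h | h) | h) <;> exact h.2
    have hAB : Disjoint A B := Set.disjoint_left.mpr fun v h h' => by
      have : v ∈ Z₁ ∩ Z₂ := ⟨h.1, h'.1⟩
      rw [hdis] at this; exact this
    have hABC : Disjoint (A ∪ B) C := Set.disjoint_left.mpr fun v h h' =>
      h'.1 (Or.inl (h.imp And.left And.left))
    have hle := Set.ncard_le_ncard hsub (Set.toFinite _)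
    rw [Set.ncard_union_eq hABC, Set.ncard_union_eq hAB, ← Nat.card_coe_set_eq (F : Set V)] at hle
    have e1 : 2 ≤ A.ncard := ftwo Z₁ hd1 h1
    have e2 : 2 ≤ B.ncard := ftwo Z₂ hd2 h2
    have e3 : 2 ≤ C.ncard := ftwo Z₃ hd3 h3
    change _ ≤ Nat.card F at hle
    omega
  obtain ⟨v, hv⟩ := hδ1
  have hne : F ≠ ⊤ := fun h => hv (h.symm.le (Subgroup.mem_top v) : v ∈ F)
  have hmod := mod_set δ hδ Set.univ (fun _ _ => trivial)
  rw [Set.ncard_univ, H.card,
    show {v | v ∈ (Set.univ : Set V) ∧ δ v = v} = (F : Set V) from Set.ext fun v => ⟨And.right, fun h => ⟨trivial, h⟩⟩,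
    ← Nat.card_coe_set_eq] at hmod
  change 16 % 3 = Nat.card F % 3 at hmod
  have hdvd := Subgroup.card_subgroup_dvd_card F
  have hlt : Nat.card F ≠ 16 := fun h => hne (Subgroup.eq_top_of_card_eq F (h.trans H.card.symm))
  rw [H.card] at hdvd
  have hle := Nat.le_of_dvd (by norm_num) hdvd
  generalize Nat.card F = n at *
  interval_cases n <;> omega

end Cfsg.Agent.Signalizer.AltFive
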